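import Mathlib
import Cfsg.Agent.Lib.Helper55.Ess
import Cfsg.Agent.Lib.Helper55.Basic
import Cfsg.Agent.Lib.Helper87.Fusion9

/-!
# Essential subgroups have no characteristic chain with factors of order `p`

If a finite `p`-group `P` has a chain of subgroups `1 = T 0 ≤ T 1 ≤ … ≤ T m = P`, invariant under a
group `Γ` of automorphisms, with all factors of order `p`, then `Γ` (and every quotient of it)
has a normal Sylow `p`-subgroup.  Hence a subgroup with such a chain of characteristic subgroups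
is not essential in any fusion system.
-/

set_option autoImplicit false
open Cfsg

namespace Cfsg.Agent.Lib.Helper91.EssChain

section Factor

variable {P : Type*} [Group P]

theorem inv_mem_of_invariant [Finite P] (N : Subgroup P) (α : MulAut P)
    (hN : ∀ x ∈ N, α x ∈ N) : ∀ x ∈ N, α⁻¹ x ∈ N := by
  intro x hx
  let f : N → N := fun y => ⟨α y, hN y y.2⟩
  have hinj : Function.Injective f := by
    intro a b hab
    have h1 : α (a : P) = α (b : P) := congrArg Subtype.val hab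
    exact Subtype.ext (α.injective h1)
  obtain ⟨y, hy⟩ := (Finite.injective_iff_surjective.mp hinj) ⟨x, hx⟩
  have h1 : α (y : P) = x := congrArg Subtype.val hy
  have h2 : α⁻¹ x = y := by rw [← h1]; exact MulAut.inv_apply_self _ _ _
  rw [h2]; exact y.2

theorem zpow_mem_of_invariant [Finite P] (N : Subgroup P) (α : MulAut P)
    (hN : ∀ x ∈ N, α x ∈ N) (j : ℤ) : ∀ x ∈ N, (α ^ j) x ∈ N := by
  have hinv := inv_mem_of_invariant N α hN
  induction j using Int.induction_on with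
  | zero => intro x hx; simpa using hx
  | succ i ih => intro x hx; rw [zpow_add_one, MulAut.mul_apply]; exact ih _ (hN x hx)
  | pred i ih => intro x hx; rw [zpow_sub_one, MulAut.mul_apply]; exact ih _ (hinv x hx)

/-- An automorphism of `p`-power order normalising `N ≤ M` with `|M : N| = p` acts trivially on
the cosets of `N` in `M`. -/
theorem factor_trivial [Finite P] {p : ℕ} [hp : Fact p.Prime] (N M : Subgroup P) (hNM : N ≤ M)
    (hcard : Nat.card M = p * Nat.card N) (α : MulAut P) (k : ℕ) (hα : α ^ (p ^ k) = 1)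
    (hN : ∀ x ∈ N, α x ∈ N) (hM : ∀ x ∈ M, α x ∈ M) : ∀ x ∈ M, x⁻¹ * α x ∈ N := by
  intro x hx
  by_contra hcon
  have hNz := zpow_mem_of_invariant N α hN
  have hMz := zpow_mem_of_invariant M α hM
  have hadd : ∀ i j : ℤ, x⁻¹ * (α ^ i) x ∈ N → x⁻¹ * (α ^ j) x ∈ N →
      x⁻¹ * (α ^ (i + j)) x ∈ N := by
    intro i j hi hj
    have e : x⁻¹ * (α ^ (i + j)) x = (x⁻¹ * (α ^ i) x) * (α ^ i) (x⁻¹ * (α ^ j) x) := by
      rw [zpow_add, MulAut.mul_apply, map_mul, map_inv]; group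
    rw [e]; exact N.mul_mem hi (hNz i _ hj)
  have hneg : ∀ i : ℤ, x⁻¹ * (α ^ i) x ∈ N → x⁻¹ * (α ^ (-i)) x ∈ N := by
    intro i hi
    have e : x⁻¹ * (α ^ (-i)) x = (α ^ (-i)) ((x⁻¹ * (α ^ i) x)⁻¹) := by
      have h1 : (α ^ (-i)) ((α ^ i) x) = x := by
        rw [← MulAut.mul_apply, ← zpow_add]; simp
      rw [mul_inv_rev, inv_inv, map_mul, map_inv, h1]
    rw [e]; exact hNz (-i) _ (N.inv_mem hi)
  have hnmul : ∀ i : ℤ, x⁻¹ * (α ^ i) x ∈ N → ∀ n : ℕ, x⁻¹ * (α ^ (i * (n : ℤ))) x ∈ N := by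
    intro i hi n
    induction n with
    | zero => simp
    | succ n ih =>
      have e : i * ((n + 1 : ℕ) : ℤ) = i * (n : ℤ) + i := by push_cast; ring
      rw [e]; exact hadd _ _ ih hi
  have hzmul : ∀ i : ℤ, x⁻¹ * (α ^ i) x ∈ N → ∀ n : ℤ, x⁻¹ * (α ^ (i * n)) x ∈ N := by
    intro i hi n
    rcases Int.eq_nat_or_neg n with ⟨m, rfl | rfl⟩
    · exact hnmul i hi m
    · have e : i * (-(m : ℤ)) = -(i * (m : ℤ)) := by ring
      rw [e]; exact hneg _ (hnmul i hi m)
  have hpk : x⁻¹ * (α ^ ((p ^ k : ℕ) : ℤ)) x ∈ N := by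
    rw [zpow_natCast, hα]; simp
  -- no `0 < c < p` has `x⁻¹ α^c x ∈ N`
  have key : ∀ c : ℕ, 0 < c → c < p → x⁻¹ * (α ^ (c : ℤ)) x ∉ N := by
    intro c hc0 hcp hc
    have hcop : Nat.Coprime c (p ^ k) := by
      apply Nat.Coprime.pow_right
      exact (Nat.Coprime.symm ((Nat.Prime.coprime_iff_not_dvd hp.out).mpr
        (fun hd => absurd (Nat.le_of_dvd hc0 hd) (not_le.mpr hcp))))
    have hb := Int.gcd_eq_gcd_ab (c : ℤ) ((p ^ k : ℕ) : ℤ)
    rw [Int.gcd_natCast_natCast, hcop] at hb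
    have h1 := hadd _ _ (hzmul _ hc (Int.gcdA (c : ℤ) ((p ^ k : ℕ) : ℤ)))
      (hzmul _ hpk (Int.gcdB (c : ℤ) ((p ^ k : ℕ) : ℤ)))
    rw [← hb] at h1
    apply hcon
    simpa using h1
  -- counting cosets
  have hidx : (N.subgroupOf M).index = p := by
    have h1 := (N.subgroupOf M).card_mul_index
    have h2 : Nat.card (N.subgroupOf M) = Nat.card N :=
      Nat.card_congr (Subgroup.subgroupOfEquivOfLe hNM).toEquiv
    rw [h2, hcard, mul_comm] at h1
    have hpos : 0 < Nat.card N := Nat.card_pos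
    exact Nat.eq_of_mul_eq_mul_right hpos h1
  have hxk : ∀ j : ℕ, (α ^ (j : ℤ)) x ∈ M := fun j => hMz j x hx
  let g : Fin p → (↥M ⧸ N.subgroupOf M) := fun j =>
    QuotientGroup.mk (⟨(α ^ ((j : ℕ) : ℤ)) x, hxk j⟩ : ↥M)
  have hlt : ∀ a b : ℕ, a < b → b < p →
      ((α ^ (a : ℤ)) x)⁻¹ * (α ^ (b : ℤ)) x ∉ N := by
    intro a b hab hbp hmem
    have h1 := hNz (-(a : ℤ)) _ hmem
    have e : (α ^ (-(a : ℤ))) (((α ^ (a : ℤ)) x)⁻¹ * (α ^ (b : ℤ)) x)
        = x⁻¹ * (α ^ (((b - a : ℕ)) : ℤ)) x := by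
      have h2 : (α ^ (-(a : ℤ))) ((α ^ (a : ℤ)) x) = x := by
        rw [← MulAut.mul_apply, ← zpow_add]; simp
      have h3 : (α ^ (-(a : ℤ))) ((α ^ (b : ℤ)) x) = (α ^ (((b - a : ℕ)) : ℤ)) x := by
        rw [← MulAut.mul_apply, ← zpow_add]
        congr 2
        rw [Nat.cast_sub hab.le]; ring
      rw [map_mul, map_inv, h2, h3]
    rw [e] at h1
    exact key (b - a) (by omega) (by omega) h1
  have hginj : Function.Injective g := by
    intro a b hab
    by_contra hne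
    have hab' := QuotientGroup.eq.mp hab
    rw [Subgroup.mem_subgroupOf] at hab'
    have hab'' : ((α ^ ((a : ℕ) : ℤ)) x)⁻¹ * (α ^ ((b : ℕ) : ℤ)) x ∈ N := by
      simpa using hab'
    rcases lt_or_gt_of_ne (fun h => hne (Fin.ext h) : (a : ℕ) ≠ (b : ℕ)) with h | h
    · exact hlt a b h b.2 hab''
    · apply hlt b a h a.2
      have e : ((α ^ ((b : ℕ) : ℤ)) x)⁻¹ * (α ^ ((a : ℕ) : ℤ)) x
          = (((α ^ ((a : ℕ) : ℤ)) x)⁻¹ * (α ^ ((b : ℕ) : ℤ)) x)⁻¹ := by group
      rw [e]; exact N.inv_mem hab''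
  have hcardQ : Nat.card (↥M ⧸ N.subgroupOf M) = p := hidx
  have hbij : Function.Bijective g :=
    hginj.bijective_of_nat_card_le (by rw [hcardQ, Nat.card_fin])
  obtain ⟨j, hj⟩ := hbij.2 ((1 : ↥M) : ↥M ⧸ N.subgroupOf M)
  have hj' := QuotientGroup.eq.mp hj
  rw [Subgroup.mem_subgroupOf] at hj'
  have hj'' : ((α ^ ((j : ℕ) : ℤ)) x)⁻¹ ∈ N := by simpa using hj'
  have hj3 : (α ^ ((j : ℕ) : ℤ)) x ∈ N := by simpa using N.inv_mem hj''
  have hxN : x ∈ N := by
    have h1 := hNz (-((j : ℕ) : ℤ)) _ hj3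
    have h2 : (α ^ (-((j : ℕ) : ℤ))) ((α ^ ((j : ℕ) : ℤ)) x) = x := by
      rw [← MulAut.mul_apply, ← zpow_add]; simp
    rwa [h2] at h1
  exact hcon (N.mul_mem (N.inv_mem hxN) (hN x hxN))

end Factor

section Sylow

variable {P : Type*} [Group P]

/-- If `Γ ≤ Aut(P)` normalises a chain from `1` to `P` with factors of order `p`, every Sylow
`p`-subgroup of every quotient of `Γ` is normal. -/
theorem sylow_normal_of_chain [Finite P] (p : ℕ) [Fact p.Prime] (hP : IsPGroup p P)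
    (Γ : Subgroup (MulAut P)) (T : ℕ → Subgroup P) (m : ℕ) (hT0 : T 0 = ⊥) (hTm : T m = ⊤)
    (hmono : Monotone T) (hinv : ∀ β ∈ Γ, ∀ i, ∀ x ∈ T i, β x ∈ T i)
    (hcard : ∀ i, i < m → Nat.card (T (i + 1)) = p * Nat.card (T i))
    (N : Subgroup Γ) [N.Normal] (Q : Sylow p (Γ ⧸ N)) : (Q : Subgroup (Γ ⧸ N)).Normal := by
  haveI : Finite (MulAut P) :=
    Finite.of_injective (fun e : MulAut P => (e : P → P)) DFunLike.coe_injective
  have key : ∀ β : Γ, ∀ k : ℕ, β ^ (p ^ k) = 1 → β ∈ Cfsg.pCore p Γ := by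
    intro β k hk
    have hk' : (β : MulAut P) ^ (p ^ k) = 1 := by
      have := congrArg Subtype.val hk
      simpa using this
    apply Cfsg.Agent.Lib.Helper87.chain_stab_mem_pCore p hP Γ T m hT0 hTm hmono hinv β β.2
    intro i x hx
    by_cases hi : i < m
    · exact factor_trivial (T i) (T (i + 1)) (hmono (Nat.le_succ i)) (hcard i hi) β k hk'
        (hinv β β.2 i) (hinv β β.2 (i + 1)) x hx
    · have h1 : T i = ⊤ := top_le_iff.mp (hTm ▸ hmono (not_lt.mp hi))
      rw [h1]; exact Subgroup.mem_top _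
  obtain ⟨Q₀⟩ : Nonempty (Sylow p Γ) := inferInstance
  have hle : (Q₀ : Subgroup Γ) ≤ Cfsg.pCore p Γ := by
    intro β hβ
    obtain ⟨k, hk⟩ := Q₀.isPGroup' ⟨β, hβ⟩
    exact key β k (by simpa using congrArg Subtype.val hk)
  have heq : Cfsg.pCore p Γ = Q₀ := Q₀.3 Cfsg.Agent.Lib.Helper55.pCore_isPGroup hle
  have hQ₀n : (Q₀ : Subgroup Γ).Normal := heq ▸ Cfsg.Agent.Lib.Helper55.pCore_normal
  have hπ : Function.Surjective (QuotientGroup.mk' N) := QuotientGroup.mk'_surjective N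
  have hQ₁n : ((Q₀.mapSurjective hπ : Sylow p (Γ ⧸ N)) : Subgroup (Γ ⧸ N)).Normal := by
    rw [Sylow.coe_mapSurjective]; exact hQ₀n.map _ hπ
  obtain ⟨g, hg⟩ := MulAction.exists_smul_eq (Γ ⧸ N) (Q₀.mapSurjective hπ) Q
  have hQ : Q = Q₀.mapSurjective hπ := by
    rw [← hg]; exact Sylow.smul_eq_of_normal
  rw [hQ]; exact hQ₁n

end Sylow

section Fusion

variable {Ω : Type*} [Group Ω] {S : Subgroup Ω}

/-- A subgroup with a chain of characteristic subgroups from `1` to itself with all factors of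
order `p` is not essential. -/
theorem not_essential_of_char_chain [Finite S] (p : ℕ) [Fact p.Prime] (hS : IsPGroup p S)
    (F : Cfsg.FusionSystem S) (H : Subgroup Ω) (hH : F.IsEssential p H)
    (T : ℕ → Subgroup H) (m : ℕ) (hT0 : T 0 = ⊥) (hTm : T m = ⊤) (hmono : Monotone T)
    (hchar : ∀ β : MulAut H, ∀ i, ∀ x ∈ T i, β x ∈ T i)
    (hcard : ∀ i, i < m → Nat.card (T (i + 1)) = p * Nat.card (T i)) : False := by
  obtain ⟨hcen, hfn, hNorm, E, hE⟩ := hH
  have hHS : H ≤ S := hcen.1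
  haveI : Finite H :=
    Finite.of_injective (Subgroup.inclusion hHS) (Subgroup.inclusion_injective hHS)
  have hHp : IsPGroup p H := hS.to_le hHS
  haveI : Finite (MulAut H) :=
    Finite.of_injective (fun e : MulAut H => (e : H → H)) DFunLike.coe_injective
  obtain ⟨Q, hQ⟩ := Cfsg.Agent.Lib.Helper55.ess_sylow_not_normal E hE
  exact hQ (sylow_normal_of_chain p hHp (F.autGroup H) T m hT0 hTm hmono
    (fun β _ => hchar β) hcard _ Q)

/-- Order `p³`: characteristic subgroups of orders `p`, `p²` forming a chain exclude essentiality. -/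
theorem not_essential_of_chain3 [Finite S] (p : ℕ) [hp : Fact p.Prime] (hS : IsPGroup p S)
    (F : Cfsg.FusionSystem S) (H : Subgroup Ω) (hH : F.IsEssential p H)
    (hcard : Nat.card H = p ^ 3) (C₁ C₂ : Subgroup H) (hle : C₁ ≤ C₂)
    (h1 : Nat.card C₁ = p) (h2 : Nat.card C₂ = p ^ 2)
    (hc1 : ∀ β : MulAut H, ∀ x ∈ C₁, β x ∈ C₁) (hc2 : ∀ β : MulAut H, ∀ x ∈ C₂, β x ∈ C₂) :
    False := by
  let T : ℕ → Subgroup H := fun i =>
    match i with
    | 0 => ⊥
    | 1 => C₁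
    | 2 => C₂
    | _ => ⊤
  refine not_essential_of_char_chain p hS F H hH T 3 rfl rfl ?_ ?_ ?_
  · apply monotone_nat_of_le_succ
    intro n
    rcases n with _ | _ | _ | n
    · exact bot_le
    · exact hle
    · exact le_top
    · exact le_refl _
  · intro β i x hx
    rcases i with _ | _ | _ | i
    · have hx' : x = 1 := Subgroup.mem_bot.mp hx
      rw [hx', map_one]; exact Subgroup.one_mem _
    · exact hc1 β x hx
    · exact hc2 β x hx
    · exact Subgroup.mem_top _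
  · intro i hi
    rcases i with _ | _ | _ | i
    · show Nat.card C₁ = p * Nat.card (⊥ : Subgroup H)
      rw [h1, Subgroup.card_bot, mul_one]
    · show Nat.card C₂ = p * Nat.card C₁
      rw [h1, h2]; ring
    · show Nat.card (⊤ : Subgroup H) = p * Nat.card C₂
      rw [h2, Subgroup.card_top, hcard]; ring
    · omega

/-- Order `p⁴`: characteristic subgroups of orders `p`, `p²`, `p³` forming a chain exclude
essentiality. -/
theorem not_essential_of_chain4 [Finite S] (p : ℕ) [hp : Fact p.Prime] (hS : IsPGroup p S)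
    (F : Cfsg.FusionSystem S) (H : Subgroup Ω) (hH : F.IsEssential p H)
    (hcard : Nat.card H = p ^ 4) (C₁ C₂ C₃ : Subgroup H) (hle : C₁ ≤ C₂) (hle' : C₂ ≤ C₃)
    (h1 : Nat.card C₁ = p) (h2 : Nat.card C₂ = p ^ 2) (h3 : Nat.card C₃ = p ^ 3)
    (hc1 : ∀ β : MulAut H, ∀ x ∈ C₁, β x ∈ C₁) (hc2 : ∀ β : MulAut H, ∀ x ∈ C₂, β x ∈ C₂)
    (hc3 : ∀ β : MulAut H, ∀ x ∈ C₃, β x ∈ C₃) : False := by
  let T : ℕ → Subgroup H := fun i =>
    match i with
    | 0 => ⊥
    | 1 => C₁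
    | 2 => C₂
    | 3 => C₃
    | _ => ⊤
  refine not_essential_of_char_chain p hS F H hH T 4 rfl rfl ?_ ?_ ?_
  · apply monotone_nat_of_le_succ
    intro n
    rcases n with _ | _ | _ | _ | n
    · exact bot_le
    · exact hle
    · exact hle'
    · exact le_top
    · exact le_refl _
  · intro β i x hx
    rcases i with _ | _ | _ | _ | i
    · have hx' : x = 1 := Subgroup.mem_bot.mp hx
      rw [hx', map_one]; exact Subgroup.one_mem _
    · exact hc1 β x hx
    · exact hc2 β x hx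
    · exact hc3 β x hx
    · exact Subgroup.mem_top _
  · intro i hi
    rcases i with _ | _ | _ | _ | i
    · show Nat.card C₁ = p * Nat.card (⊥ : Subgroup H)
      rw [h1, Subgroup.card_bot, mul_one]
    · show Nat.card C₂ = p * Nat.card C₁
      rw [h1, h2]; ring
    · show Nat.card C₃ = p * Nat.card C₂
      rw [h2, h3]; ring
    · show Nat.card (⊤ : Subgroup H) = p * Nat.card C₃
      rw [h3, Subgroup.card_top, hcard]; ring
    · omega

end Fusion

end Cfsg.Agent.Lib.Helper91.EssChain
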