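import Mathlib
import Cfsg.Agent.Lib.Helper58.JUDefs

/-! JU-LE (S2950 project of helper58): every 2-local subgroup containing `K ⊔ J(T)` normalizes
`WB T K`. -/

set_option autoImplicit false

namespace Cfsg.Agent.Lib.Helper91.JU

open Cfsg.Agent.Lib.Helper58.JU Cfsg.Agent.Lib.Helper72.JL Cfsg.Agent.Lib.Helper72.SC
  Cfsg.Agent.Lib.Helper72.JM Cfsg.Agent.Lib.Helper72.JP Cfsg.Agent.Lib.Helper78.JN
  Cfsg.Agent.Lib.Helper78.Jc

open scoped commutatorElement

universe u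

/-- an element `n` with `Y^n ≤ Y` and `Y^(n⁻¹) ≤ Y` normalizes `Y` -/
theorem jule_mem_normalizer_of_map_le {G : Type*} [Group G] (Y : Subgroup G) (n : G)
    (h1 : cg n Y ≤ Y) (h2 : cg n⁻¹ Y ≤ Y) :
    n ∈ Subgroup.normalizer (Y : Set G) := by
  rw [Subgroup.mem_normalizer_iff]
  intro h
  constructor
  · intro hh
    exact h1 (Subgroup.mem_map_of_mem (MulAut.conj n).toMonoidHom hh)
  · intro hh
    have h3 := h2 (Subgroup.mem_map_of_mem (MulAut.conj n⁻¹).toMonoidHom hh)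
    have e : (MulAut.conj n⁻¹).toMonoidHom (n * h * n⁻¹) = h := by
      show n⁻¹ * (n * h * n⁻¹) * n⁻¹⁻¹ = h
      group
    rwa [e] at h3

/-- membership in a conjugate -/
theorem jule_mem_cg {G : Type*} [Group G] (x y : G) (K : Subgroup G) :
    y ∈ cg x K ↔ x⁻¹ * y * x ∈ K := by
  constructor
  · rintro ⟨k, hk, rfl⟩
    have e : x⁻¹ * (MulAut.conj x).toMonoidHom k * x = k := by
      show x⁻¹ * (x * k * x⁻¹) * x = k
      group
    rw [e]; exact hk
  · intro hy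
    refine ⟨x⁻¹ * y * x, hy, ?_⟩
    show x * (x⁻¹ * y * x) * x⁻¹ = y
    group

theorem jule_cg_one {G : Type*} [Group G] (K : Subgroup G) : cg 1 K = K := by
  ext y
  rw [jule_mem_cg]
  simp

theorem jule_cg_mul {G : Type*} [Group G] (x y : G) (K : Subgroup G) :
    cg x (cg y K) = cg (x * y) K := by
  ext z
  rw [jule_mem_cg, jule_mem_cg, jule_mem_cg]
  have e : y⁻¹ * (x⁻¹ * z * x) * y = (x * y)⁻¹ * z * (x * y) := by group
  rw [e]

/-- the normalizer of a conjugate -/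
theorem jule_cg_normalizer {G : Type*} [Group G] (x : G) (A : Subgroup G) :
    cg x (Subgroup.normalizer (A : Set G)) = Subgroup.normalizer (cg x A : Set G) :=
  Subgroup.map_equiv_normalizer_eq A (MulAut.conj x)

/-- an element normalizing every member of a family normalizes its supremum -/
theorem jule_mem_normalizer_sSup {G : Type*} [Group G] (S : Set (Subgroup G)) (g : G)
    (h : ∀ W ∈ S, g ∈ Subgroup.normalizer (W : Set G)) :
    g ∈ Subgroup.normalizer ((sSup S : Subgroup G) : Set G) := by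
  have key : ∀ a : G, (∀ W ∈ S, a ∈ Subgroup.normalizer (W : Set G)) →
      cg a (sSup S) ≤ sSup S := by
    intro a ha
    show (sSup S).map (MulAut.conj a).toMonoidHom ≤ sSup S
    rw [Subgroup.map_le_iff_le_comap]
    refine sSup_le fun W hW => ?_
    intro w hw
    rw [Subgroup.mem_comap]
    have h1 := (Subgroup.mem_normalizer_iff.1 (ha W hW) w).1 hw
    exact (le_sSup hW : W ≤ sSup S) h1
  exact jule_mem_normalizer_of_map_le _ g (key g h) (key g⁻¹ fun W hW => inv_mem (h W hW))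

/-- JU-LE -/
theorem le (hOrb : OrbStmt.{u}) (hBlk : BlkStmt.{u}) (hCmg : CmgStmt.{u})
    (hWConj : WConjStmt.{u}) (hExG : ExGStmt.{u}) : LeStmt.{u} := by
  intro G _ _ M T K hC H hH hKJH
  have hKH : K ≤ H := le_sup_left.trans hKJH
  have hJH : Cfsg.thompsonSubgroupOf 2 T ≤ H := le_sup_right.trans hKJH
  have hHM : ¬ H ≤ M := fun h => hC.hKM (hKH.trans h)
  obtain ⟨T₀, hT₀2, hT₀ne, hHov, hJ₀⟩ := hC.hloc H hH hHM hJH
  have hiff : ∀ K' : Subgroup G, Cfsg.IsJComponent T₀ K' ↔ Cfsg.IsJComponent T K' := by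
    intro K'
    unfold Cfsg.IsJComponent
    rw [hJ₀]
  have hKorb : K ∈ Orb T K := ⟨1, one_mem _, (jule_cg_one K).symm⟩
  obtain ⟨hKc, hKM', hNK, hJN, hKN, hNloc⟩ := hOrb G M T K hC K hKorb
  have hNM : ¬ Subgroup.normalizer (Cfsg.wOf K : Set G) ≤ M := fun h => hC.hKM (hKN.trans h)
  obtain ⟨T₁, hT₁2, hT₁ne, hNov, hJ₁⟩ := hC.hloc _ hNloc hNM hJN
  have hiff₁ : ∀ K' : Subgroup G, Cfsg.IsJComponent T₁ K' ↔ Cfsg.IsJComponent T K' := by
    intro K'
    unfold Cfsg.IsJComponent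
    rw [hJ₁]
  apply hExG G hC.hzn T₀ hT₀2 hT₀ne H hHov (Subgroup.normalizer (WB T K : Set G))
  · -- the components of `H`
    intro K' hK'c hK'H
    have hK'T : Cfsg.IsJComponent T K' := (hiff K').1 hK'c
    have hK'N : K' ≤ Subgroup.normalizer (Cfsg.wOf K : Set G) :=
      hCmg G hC.hzn T₀ hT₀2 hT₀ne H hHov K K' ((hiff K).2 hC.hK) hK'c hKH hK'H
    intro g hg
    unfold WB
    apply jule_mem_normalizer_sSup
    rintro W ⟨K'', hK'', rfl⟩
    obtain ⟨hK''orb, hK''N⟩ := hK''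
    have hK''c : Cfsg.IsJComponent T K'' := (hOrb G M T K hC K'' hK''orb).1
    exact hCmg G hC.hzn T₁ hT₁2 hT₁ne _ hNov K'' K' ((hiff₁ K'').2 hK''c)
      ((hiff₁ K').2 hK'T) hK''N hK'N hg
  · -- the elements of `N_H(J)`
    have key : ∀ x : G, x ∈ H →
        x ∈ Subgroup.normalizer (Cfsg.thompsonSubgroupOf 2 T : Set G) →
        cg x (WB T K) ≤ WB T K := by
      intro x hxH hxJ
      have hxKorb : cg x K ∈ Orb T K := ⟨x, hxJ, rfl⟩
      have hxKc : Cfsg.IsJComponent T (cg x K) := (hOrb G M T K hC _ hxKorb).1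
      have hxKH : cg x K ≤ H := by
        intro y hy
        rw [jule_mem_cg] at hy
        have h1 : x * (x⁻¹ * y * x) * x⁻¹ ∈ H :=
          H.mul_mem (H.mul_mem hxH (hKH hy)) (H.inv_mem hxH)
        have e : x * (x⁻¹ * y * x) * x⁻¹ = y := by group
        rwa [e] at h1
      have hxKN : cg x K ≤ Subgroup.normalizer (Cfsg.wOf K : Set G) :=
        hCmg G hC.hzn T₀ hT₀2 hT₀ne H hHov K (cg x K) ((hiff K).2 hC.hK)
          ((hiff _).2 hxKc) hKH hxKH
      have hblk : ∀ K' ∈ Blk T K, cg x K' ∈ Blk T K := by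
        rintro K' ⟨⟨y, hyJ, rfl⟩, hK'N⟩
        have horb : cg x (cg y K) ∈ Orb T K :=
          ⟨x * y, mul_mem hxJ hyJ, jule_cg_mul x y K⟩
        refine ⟨horb, ?_⟩
        have h1 : cg x (cg y K) ≤ Subgroup.normalizer (Cfsg.wOf (cg x K) : Set G) := by
          rw [hWConj G K x, ← jule_cg_normalizer]
          exact Subgroup.map_mono hK'N
        exact (hBlk G M T K hC K hKorb (cg x K) hxKorb hxKN (cg x (cg y K)) horb).2 h1
      unfold WB
      show (sSup {W | ∃ K' ∈ Blk T K, W = Cfsg.wOf K'}).map (MulAut.conj x).toMonoidHom ≤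
        sSup {W | ∃ K' ∈ Blk T K, W = Cfsg.wOf K'}
      rw [Subgroup.map_le_iff_le_comap]
      refine sSup_le ?_
      rintro W ⟨K', hK', rfl⟩
      intro w hw
      rw [Subgroup.mem_comap]
      have h1 : (MulAut.conj x).toMonoidHom w ∈ Cfsg.wOf (cg x K') := by
        rw [hWConj G K' x]
        exact Subgroup.mem_map_of_mem _ hw
      have h2 : Cfsg.wOf (cg x K') ≤ sSup {W | ∃ K' ∈ Blk T K, W = Cfsg.wOf K'} :=
        le_sSup ⟨cg x K', hblk K' hK', rfl⟩
      exact h2 h1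
    intro x hx
    obtain ⟨hxH, hxJ₀⟩ := Subgroup.mem_inf.1 hx
    rw [hJ₀] at hxJ₀
    exact jule_mem_normalizer_of_map_le _ x (key x hxH hxJ₀)
      (key x⁻¹ (H.inv_mem hxH) (inv_mem hxJ₀))

end Cfsg.Agent.Lib.Helper91.JU
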