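import Mathlib
import Cfsg.Prelude.Def_FusionSystem
import Cfsg.Prelude.Def_FusionReduction
import Cfsg.Agent.Lib.Helper91.KLThompB

/-!
# The strengthened Frobenius criterion for fusion systems

Let `F` be a saturated fusion system over `S` with `p` odd or `F` `S₄`-free.  If `F` has a
self-map that is not of `p`-power order, then some nontrivial characteristic subgroup of `S`
has such a self-map in `F`.  The proof is by induction on the order of `S`, through Thompson's
theorem, the normalizer system of `J(S)` or `Z(S)`, and its factor system.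
-/

set_option autoImplicit false

universe u

namespace Cfsg.Agent.Lib.Helper91

open Cfsg Cfsg.FusionSystem Cfsg.Agent.Lib.Helper90 Cfsg.Agent.Lib.Helper88
  Cfsg.Agent.Lib.Helper2

section chars

variable {G : Type*} [Group G]

theorem tsA_subgroupOf_char (S : Subgroup G) :
    ((thompsonSubgroupAOf S).subgroupOf S).Characteristic := by
  have h1 : (thompsonSubgroupAOf S).subgroupOf S = thompsonSubgroupAOf (⊤ : Subgroup S) := by
    rw [tsA_eq_map_top S]
    exact Subgroup.comap_map_eq_self_of_injective S.subtype_injective _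
  rw [h1, Subgroup.characteristic_iff_map_eq]
  intro ϕ
  have h2 := tsA_range ϕ.toMonoidHom ϕ.injective
  have h3 : ϕ.toMonoidHom.range = ⊤ := MonoidHom.range_eq_top.2 ϕ.surjective
  rw [h3] at h2
  exact h2.symm

theorem zc_subgroupOf_char (S : Subgroup G) :
    ((S ⊓ Subgroup.centralizer (S : Set G)).subgroupOf S).Characteristic := by
  have h1 : (S ⊓ Subgroup.centralizer (S : Set G)).subgroupOf S = Subgroup.center S := by
    ext x
    rw [Subgroup.mem_subgroupOf, Subgroup.mem_center_iff]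
    constructor
    · intro h s
      exact Subtype.ext ((Subgroup.mem_centralizer_iff.1 h.2) s s.2)
    · intro h
      refine ⟨x.2, ?_⟩
      show (x : G) ∈ Subgroup.centralizer (S : Set G)
      rw [Subgroup.mem_centralizer_iff]
      intro s hs
      exact congrArg Subtype.val (h ⟨s, hs⟩)
  rw [h1]
  infer_instance

/-- The full preimage of a characteristic subgroup of `S/X`, `X` characteristic in `S`, is
characteristic in `S`. -/
theorem char_preimage {S : Subgroup G} {X : Subgroup G} [hn : (X.subgroupOf S).Normal]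
    (hXc : (X.subgroupOf S).Characteristic) (R' : Subgroup (S ⧸ X.subgroupOf S))
    (hR : (R'.subgroupOf ⊤).Characteristic) :
    ((preimageAlong (QuotientGroup.mk' (X.subgroupOf S)) R').subgroupOf S).Characteristic := by
  have h1 : (preimageAlong (QuotientGroup.mk' (X.subgroupOf S)) R').subgroupOf S =
      R'.comap (QuotientGroup.mk' (X.subgroupOf S)) :=
    Subgroup.comap_map_eq_self_of_injective S.subtype_injective _
  rw [h1, Subgroup.characteristic_iff_comap_eq]
  intro ϕ
  have hK : (X.subgroupOf S).map ϕ.toMonoidHom = X.subgroupOf S :=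
    Subgroup.characteristic_iff_map_eq.1 hXc ϕ
  obtain ⟨ψ, hψ⟩ : ∃ ψ : (S ⧸ X.subgroupOf S) ≃* (S ⧸ X.subgroupOf S),
      ∀ x : S, ψ (QuotientGroup.mk x) = QuotientGroup.mk (ϕ x) :=
    ⟨QuotientGroup.congr _ _ ϕ hK, fun x => rfl⟩
  have hβ := Subgroup.characteristic_iff_comap_eq.1 hR
    (Subgroup.topEquiv.trans (ψ.trans Subgroup.topEquiv.symm))
  have key : ∀ y : S ⧸ X.subgroupOf S, ψ y ∈ R' ↔ y ∈ R' := by
    intro y
    have h2 : (⟨y, Subgroup.mem_top y⟩ : (⊤ : Subgroup (S ⧸ X.subgroupOf S))) ∈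
        (R'.subgroupOf ⊤).comap
          (Subgroup.topEquiv.trans (ψ.trans Subgroup.topEquiv.symm)).toMonoidHom ↔
        (⟨y, Subgroup.mem_top y⟩ : (⊤ : Subgroup (S ⧸ X.subgroupOf S))) ∈
          R'.subgroupOf ⊤ := by
      rw [hβ]
    exact h2
  ext x
  rw [Subgroup.mem_comap, Subgroup.mem_comap, Subgroup.mem_comap]
  have h3 := key (QuotientGroup.mk x)
  rw [hψ] at h3
  exact h3

end chars

theorem card_quot_lt' {Ω : Type*} [Group Ω] {S : Subgroup Ω} [Finite S] {X : Subgroup Ω}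
    [(X.subgroupOf S).Normal] (hXS : X ≤ S) (hX1 : X ≠ ⊥) :
    Nat.card (⊤ : Subgroup (S ⧸ X.subgroupOf S)) < Nat.card S := by
  rw [Subgroup.card_top, Subgroup.card_eq_card_quotient_mul_card_subgroup (X.subgroupOf S)]
  have h1 : 1 < Nat.card (X.subgroupOf S) := by
    rw [Subgroup.one_lt_card_iff_ne_bot]
    intro hbot
    rw [Subgroup.subgroupOf_eq_bot] at hbot
    exact hX1 (eq_bot_iff.2 (hbot le_rfl hXS))
  have h2 : 0 < Nat.card (S ⧸ X.subgroupOf S) := Nat.card_pos
  calc Nat.card (S ⧸ X.subgroupOf S) = Nat.card (S ⧸ X.subgroupOf S) * 1 :=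
        (mul_one _).symm
    _ < _ := (Nat.mul_lt_mul_left h2).2 h1

/-- A nontrivial characteristic subgroup of `S` with a self-map of the system that is not of
`p`-power order. -/
def CharWit (p : ℕ) : ∀ (Ω : Type u) [Group Ω] (S : Subgroup Ω), FusionSystem S → Prop :=
  fun Ω _ S F => ∃ Q : Subgroup Ω, Q ≤ S ∧ Q ≠ ⊥ ∧ (Q.subgroupOf S).Characteristic ∧
    ∃ g : Ω → Ω, Mor F Q g ∧ (∀ x ∈ Q, g x ∈ Q) ∧ NotP p Q g

theorem charWit_mono {p : ℕ} {Ω : Type u} [Group Ω] {S S' : Subgroup Ω} {F : FusionSystem S}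
    {E : FusionSystem S'} (hS : S' = S) (hEF : ∀ P : Subgroup Ω, E.Hom P ⊆ F.Hom P)
    (h : CharWit p Ω S' E) : CharWit p Ω S F := by
  subst hS
  obtain ⟨Q, hQS, hQ1, hQc, g, hg, hgQ, hnp⟩ := h
  refine ⟨Q, hQS, hQ1, hQc, g, ?_, hgQ, hnp⟩
  obtain ⟨φ, hφ, hφf⟩ := hg
  exact ⟨φ, hEF Q hφ, hφf⟩

section main

variable {p : ℕ} [Fact p.Prime]
  (hN4 : ∀ (Ω : Type u) [Group Ω] (S : Subgroup Ω) [Finite S] (F : FusionSystem S),
    IsPGroup p S → F.IsSaturated p → F.IsSectionFree p (Equiv.Perm (Fin 4)) →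
    ∀ Y : Subgroup Ω, F.IsFullyNormalized Y → ∀ N : FusionSystem (normalizerIn S Y),
      F.IsNormalizerSystem Y N → N.IsSectionFree p (Equiv.Perm (Fin 4)))
  (hQ4 : ∀ (Ω : Type u) [Group Ω] (S : Subgroup Ω) [Finite S] (F : FusionSystem S),
    IsPGroup p S → F.IsSaturated p → ∀ Q : Subgroup Ω, F.IsNormal Q →
    F.IsSectionFree p (Equiv.Perm (Fin 4)) →
    ∀ (Ω' : Type u) [Group Ω'] (S' : Subgroup Ω') (θ : S →* Ω') (E : FusionSystem S'),
      F.IsFactorSystem Q θ E → E.IsSectionFree p (Equiv.Perm (Fin 4)))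

include hQ4 in
/-- One step: a system with a nontrivial normal subgroup `X`, characteristic in `S`. -/
theorem char_step {Ω : Type u} [Group Ω] {S : Subgroup Ω} [Finite S] (hS : IsPGroup p S)
    {F : FusionSystem S} (hF : F.IsSaturated p) (hC : ThC p Ω S F) {X : Subgroup Ω}
    (hXn : F.IsNormal X) (hXc : (X.subgroupOf S).Characteristic) (hX1 : X ≠ ⊥)
    (IH : ∀ (Ω' : Type u) [Group Ω'] (S' : Subgroup Ω') [Finite S'] (F' : FusionSystem S'),
      IsPGroup p S' → F'.IsSaturated p → ThC p Ω' S' F' → Nat.card S' < Nat.card S →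
        NI F' p → CharWit p Ω' S' F')
    (hni : NI F p) : CharWit p Ω S F := by
  have hXsc := Cfsg.Agent.Lib.Helper90.stronglyClosed_of_isNormal hXn
  have hXS : X ≤ S := hXn.1
  have hn : (X.subgroupOf S).Normal := Subgroup.normal_of_characteristic _
  obtain ⟨E, hE⟩ := Cfsg.Agent.S5132.result p hS F X hXsc
  have hsm := Cfsg.Agent.S5134.result p hS F hF X hXsc _ E hE
  have hEsat : E.IsSaturated p := isSaturated_of_surjectiveMorphism hS hF hsm
  have hker : kerAlong (QuotientGroup.mk' (X.subgroupOf S)) = X := by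
    ext x
    rw [mem_kerAlong]
    constructor
    · rintro ⟨hx, h⟩
      rw [aFun_apply' _ hx] at h
      exact (hE.2.1 ⟨x, hx⟩).1 h
    · intro hx
      refine ⟨hXS hx, ?_⟩
      rw [aFun_apply' _ (hXS hx)]
      exact (hE.2.1 ⟨x, hXS hx⟩).2 hx
  have hEp : IsPGroup p (⊤ : Subgroup (S ⧸ X.subgroupOf S)) :=
    (hS.to_quotient (X.subgroupOf S)).to_subgroup ⊤
  have hCE : ThC p (S ⧸ X.subgroupOf S) ⊤ E := by
    rcases hC with h | h
    · exact Or.inl h
    · exact Or.inr (hQ4 Ω S F hS hF X hXn h _ ⊤ _ E hE)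
  by_cases hEni : NI E p
  · have hlt : Nat.card (⊤ : Subgroup (S ⧸ X.subgroupOf S)) < Nat.card S :=
      card_quot_lt' hXS hX1
    obtain ⟨R', hR'le, hR'1, hR'c, g', hg', hg'R, hnp'⟩ := IH _ ⊤ E hEp hEsat hCE hlt hEni
    obtain ⟨g, hg, hgl⟩ := mor_lift hsm hg'
    have hRS := preimageAlong_le (QuotientGroup.mk' (X.subgroupOf S)) R'
    have hgR : ∀ x ∈ preimageAlong (QuotientGroup.mk' (X.subgroupOf S)) R',
        g x ∈ preimageAlong (QuotientGroup.mk' (X.subgroupOf S)) R' := by
      intro x hx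
      refine mem_preimageAlong.2 ⟨hg.mem hx, ?_⟩
      rw [← hgl x hx]
      exact hg'R _ (mem_preimageAlong.1 hx).2
    refine ⟨preimageAlong (QuotientGroup.mk' (X.subgroupOf S)) R', hRS, ?_,
      char_preimage hXc R' hR'c, g, hg, hgR, ?_⟩
    · intro hbot
      apply hX1
      have h1 := kerAlong_le_preimageAlong (QuotientGroup.mk' (X.subgroupOf S)) R'
      rw [hker, hbot] at h1
      exact eq_bot_iff.2 h1
    · intro k
      obtain ⟨y, hy, hne⟩ := hnp' k
      obtain ⟨x, hxS, rfl⟩ := exists_aFun_eq hsm (hg'.le hy)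
      have hx : x ∈ preimageAlong (QuotientGroup.mk' (X.subgroupOf S)) R' :=
        mem_preimageAlong.2 ⟨hxS, hy⟩
      refine ⟨x, hx, fun h => hne ?_⟩
      rw [iter_semiconj (a := aFun (QuotientGroup.mk' (X.subgroupOf S))) (f' := g') hgR hgl
        (p ^ k) x hx, h]
  · have hKn : F.IsNormal (kerAlong (QuotientGroup.mk' (X.subgroupOf S))) := by
      rw [hker]; exact hXn
    obtain ⟨g, hg, hgK, hgnp⟩ := exists_ker_witness hS hsm.1 hKn hEni hni
    rw [hker] at hg hgK hgnp
    exact ⟨X, hXS, hX1, hXc, g, hg, hgK, hgnp⟩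

include hN4 hQ4

theorem char_induction :
    ∀ (n : ℕ) (Ω : Type u) [Group Ω] (S : Subgroup Ω) [Finite S] (F : FusionSystem S),
      IsPGroup p S → F.IsSaturated p → ThC p Ω S F → Nat.card S = n → NI F p →
        CharWit p Ω S F := by
  intro n
  induction n using Nat.strong_induction_on with
  | _ n ih =>
    intro Ω _ S _ F hS hF hC hn hni
    have hS1 : S ≠ ⊥ := by
      obtain ⟨P, f, hf, hfP, hnp⟩ := hni
      have hP1 := ne_bot_of_notP hf hnp
      intro h
      apply hP1
      have h2 := hf.le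
      rw [h] at h2
      exact eq_bot_iff.2 h2
    have hX : ∃ X : Subgroup Ω, X ≤ S ∧ X ≠ ⊥ ∧ S ≤ Subgroup.normalizer (X : Set Ω) ∧
        (X.subgroupOf S).Characteristic ∧ NIW F p X := by
      rcases kl_main (thompson_klHyp hN4 hQ4) hS hF hC hni with h | h
      · exact ⟨thompsonSubgroupAOf S, tsA_le_self S, tsA_ne_bot S hS1,
          fun s hs => tsA_normalizer (Subgroup.le_normalizer hs), tsA_subgroupOf_char S, h⟩
      · exact ⟨S ⊓ Subgroup.centralizer (S : Set Ω), inf_le_left, zc_ne_bot S hS hS1,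
          fun s hs => zc_normalizer (Subgroup.le_normalizer hs), zc_subgroupOf_char S,
          niw_of_nicw h⟩
    obtain ⟨X, hXS, hX1, hXn, hXc, hXw⟩ := hX
    have hNS : normalizerIn S X = S := normalizerIn_eq_of_normal hXn
    have hTS : normalizerIn S X ≤ S := normalizerIn_le_S S X
    have : Finite (normalizerIn S X) := finite_of_le hTS
    have hE := normalizerSys_isNormalizerSystem (F := F) hXS
    have hXfn : F.IsFullyNormalized X := fullyNormalized_of_normal hXS hXn
    have hEsat := Cfsg.Agent.S5098.result p hS F hF X hXfn _ hE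
    have hEni := ni_of_niw hXS hE hXw
    have hCE := (thompson_klHyp hN4 hQ4).norm Ω S F hS hF hC X hXfn _ hE
    have hXnorm := isNormal_normalizerSys hXS hE
    have hXc' : (X.subgroupOf (normalizerIn S X)).Characteristic := by
      rw [hNS]; exact hXc
    have h3 : Nat.card (normalizerIn S X) = Nat.card S :=
      congrArg (fun K : Subgroup Ω => Nat.card K) hNS
    have hconcl := char_step hQ4 (hS.to_le hTS) hEsat hCE hXnorm hXc' hX1
      (fun Ω' _ S' _ F' hS' hF' hC' hlt hni' =>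
        ih (Nat.card S') (by omega) Ω' S' F' hS' hF' hC' rfl hni') hEni
    exact charWit_mono hNS (isSubsystem_of_isNormalizerSystem hE) hconcl

/-- The strengthened Frobenius criterion for fusion systems. -/
theorem inner_of_char_aut {Ω : Type u} [Group Ω] {S : Subgroup Ω} [Finite S]
    (hS : IsPGroup p S) (F : FusionSystem S) (hF : F.IsSaturated p)
    (hp : p ≠ 2 ∨ F.IsSectionFree p (Equiv.Perm (Fin 4)))
    (h : ∀ Q : Subgroup Ω, Q ≤ S → Q ≠ ⊥ → (Q.subgroupOf S).Characteristic →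
      IsPGroup p (F.autGroup Q)) :
    ∀ P : Subgroup Ω, F.Hom P = (innerFusionSystem S).Hom P := by
  by_contra hne
  have hni := ni_of_ne_inner hS hF hne
  obtain ⟨Q, hQS, hQ1, hQc, g, hg, hgQ, hnp⟩ :=
    char_induction hN4 hQ4 _ Ω S F hS hF hp rfl hni
  have : Finite Q := finite_of_le hQS
  obtain ⟨α, hα, hαg⟩ := exists_aut_of_mor hg hgQ
  obtain ⟨k, hk⟩ := h Q hQS hQ1 hQc ⟨α, hα⟩
  have hk' : α ^ p ^ k = 1 := by simpa using congrArg Subtype.val hk
  obtain ⟨x, hx, hne'⟩ := hnp k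
  apply hne'
  have h1 : ∀ n : ℕ, ∀ y ∈ Q, g^[n] y = (autFun Q α)^[n] y :=
    fun n => iter_congr hgQ (fun y hy => by
      rw [autFun_apply' α hy]; exact (hαg ⟨y, hy⟩).symm) n
  rw [h1 _ x hx]
  have h2 := autFun_iter α (p ^ k) ⟨x, hx⟩
  rw [h2, hk']
  rfl

end main

end Cfsg.Agent.Lib.Helper91
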