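import Mathlib
import Cfsg.Agent.Lib.Helper18.LSDefs

set_option autoImplicit false

/-! S2333 piece LS-NANISO1 (helper91 for helper18). -/

namespace Cfsg.Agent.Lib.Helper18.LS

open Matrix

universe u

variable {F : Type u} [Field F] {n : ℕ}

private theorem naniso1_sq_inj [CharP F 2] (a b : F) (hab : a ^ 2 = b ^ 2) : a = b := by
  have h2 : (2 : F) = 0 := by
    have := CharP.cast_eq_zero F 2
    exact_mod_cast this
  have h3 : (a - b) ^ 2 = 0 := by
    have : (a - b) ^ 2 = a ^ 2 + b ^ 2 - 2 * (a * b) := by ring
    rw [this, h2, hab]
    have : b ^ 2 + b ^ 2 = 2 * b ^ 2 := by ring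
    rw [this, h2]
    ring
  have h4 : a - b = 0 := by
    exact pow_eq_zero_iff (two_ne_zero) |>.mp h3
  exact sub_eq_zero.mp h4

theorem naniso_one [Fintype F] [CharP F 2] (α β : F)
    (h : ∀ p : F × F, f2 α β p = 0 → p = 0) (α' : F) :
    Nat.card {p : F × F | f2 α β p = α'} ≤ Fintype.card F + 1 := by
  classical
  by_cases hα : α' = 0
  · subst hα
    have hset : {p : F × F | f2 α β p = 0} = {0} := by
      ext p
      constructor
      · intro hp
        exact h p hp
      · intro hp
        rw [Set.mem_singleton_iff] at hp
        subst hp
        simp [f2]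
    rw [hset]
    simp
  · let φ : {p : F × F | f2 α β p = α'} → Option F :=
      fun p => if p.1.1 = 0 then none else some (p.1.2 / p.1.1)
    have hinj : Function.Injective φ := by
      rintro ⟨p, hp⟩ ⟨p', hp'⟩ hpp
      have hp0 : f2 α β p = α' := hp
      have hp0' : f2 α β p' = α' := hp'
      simp only [φ] at hpp
      apply Subtype.ext
      show p = p'
      by_cases h1 : p.1 = 0
      · by_cases h1' : p'.1 = 0
        · -- both on the axis
          have e1 : p.2 ^ 2 * β = α' := by
            have := hp0
            simp only [f2, h1] at this
            simpa using this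
          have e2 : p'.2 ^ 2 * β = α' := by
            have := hp0'
            simp only [f2, h1'] at this
            simpa using this
          have hβ : β ≠ 0 := by
            intro hβ
            rw [hβ, mul_zero] at e1
            exact hα e1.symm
          have e3 : p.2 ^ 2 = p'.2 ^ 2 := by
            apply mul_right_cancel₀ hβ
            rw [e1, e2]
          have e4 := naniso1_sq_inj p.2 p'.2 e3
          exact Prod.ext (h1.trans h1'.symm) e4
        · rw [if_pos h1, if_neg h1'] at hpp
          exact absurd hpp (by simp)
      · by_cases h1' : p'.1 = 0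
        · rw [if_neg h1, if_pos h1'] at hpp
          exact absurd hpp (by simp)
        · rw [if_neg h1, if_neg h1'] at hpp
          have hr : p.2 / p.1 = p'.2 / p'.1 := Option.some.inj hpp
          obtain ⟨r, hr1⟩ : ∃ r, r = p.2 / p.1 := ⟨_, rfl⟩
          have hr2 : p.2 = r * p.1 := by rw [hr1]; field_simp
          have hr2' : p'.2 = r * p'.1 := by rw [hr1, hr]; field_simp
          have e1 : p.1 ^ 2 * (α + r + r ^ 2 * β) = α' := by
            rw [← hp0]
            simp only [f2, hr2]
            ring
          have e2 : p'.1 ^ 2 * (α + r + r ^ 2 * β) = α' := by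
            rw [← hp0']
            simp only [f2, hr2']
            ring
          have hc : α + r + r ^ 2 * β ≠ 0 := by
            intro hc
            rw [hc, mul_zero] at e1
            exact hα e1.symm
          have e3 : p.1 ^ 2 = p'.1 ^ 2 := by
            apply mul_right_cancel₀ hc
            rw [e1, e2]
          have e4 := naniso1_sq_inj p.1 p'.1 e3
          exact Prod.ext e4 (by rw [hr2, hr2', e4])
    calc Nat.card {p : F × F | f2 α β p = α'} ≤ Nat.card (Option F) :=
          Nat.card_le_card_of_injective φ hinj
      _ = Fintype.card F + 1 := by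
          rw [Nat.card_eq_fintype_card, Fintype.card_option]

end Cfsg.Agent.Lib.Helper18.LS
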