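import Mathlib
import Cfsg.Prelude.Def_Transfer
import Cfsg.Agent.Lib.Helper72.Frattini
import Cfsg.Agent.Lib.Helper12.NormAbCyc2

/-!
# Groups of order `p³`: either one of three special shapes, or a characteristic chain

A group of order `p³` is elementary abelian, or nonabelian of exponent `p` (then `p` is odd and the
group is extraspecial), or the quaternion group of order `8`, or it has characteristic subgroups
`C₁ ≤ C₂` of orders `p` and `p²`.
-/

set_option autoImplicit false
open Cfsg
open scoped commutatorElement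

namespace Cfsg.Agent.Lib.Helper91.OrderP3

section Class2

variable {G : Type*} [Group G]

theorem pow_mul_comm_class2 (x y c : G) (hc : y * x = c * x * y) (hcy : Commute c y) (n : ℕ) :
    y ^ n * x = c ^ n * x * y ^ n := by
  induction n with
  | zero => simp
  | succ n ih =>
    have h1 : Commute (c ^ n) y := hcy.pow_left n
    calc y ^ (n + 1) * x = y * (y ^ n * x) := by rw [pow_succ', mul_assoc]
      _ = y * (c ^ n * x * y ^ n) := by rw [ih]
      _ = (y * c ^ n) * x * y ^ n := by simp only [mul_assoc]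
      _ = (c ^ n * y) * x * y ^ n := by rw [h1.eq]
      _ = c ^ n * (y * x) * y ^ n := by simp only [mul_assoc]
      _ = c ^ n * (c * x * y) * y ^ n := by rw [hc]
      _ = c ^ (n + 1) * x * y ^ (n + 1) := by
        rw [pow_succ, pow_succ']; simp only [mul_assoc]

/-- Power of a product when the commutator is central. -/
theorem mul_pow_class2 (x y c : G) (hc : y * x = c * x * y) (hcx : Commute c x)
    (hcy : Commute c y) (n : ℕ) : (x * y) ^ n = x ^ n * y ^ n * c ^ (n.choose 2) := by
  induction n with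
  | zero => simp
  | succ n ih =>
    have h1 : Commute (c ^ (n.choose 2)) (x * y) := (hcx.mul_right hcy).pow_left _
    have h3 : Commute (c ^ n) (x ^ n) := (hcx.pow_left n).pow_right n
    have h4 : Commute (c ^ n) (x ^ (n + 1) * y ^ (n + 1)) :=
      ((hcx.pow_left n).pow_right (n + 1)).mul_right ((hcy.pow_left n).pow_right (n + 1))
    have hch : (n + 1).choose 2 = n + n.choose 2 := by
      rw [Nat.choose_succ_succ' n 1, Nat.choose_one_right]
    calc (x * y) ^ (n + 1) = (x * y) ^ n * (x * y) := pow_succ _ _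
      _ = x ^ n * y ^ n * c ^ (n.choose 2) * (x * y) := by rw [ih]
      _ = x ^ n * y ^ n * ((x * y) * c ^ (n.choose 2)) := by rw [mul_assoc, h1.eq]
      _ = x ^ n * (y ^ n * x) * y * c ^ (n.choose 2) := by simp only [mul_assoc]
      _ = x ^ n * (c ^ n * x * y ^ n) * y * c ^ (n.choose 2) := by
        rw [pow_mul_comm_class2 x y c hc hcy n]
      _ = (x ^ n * c ^ n) * x * (y ^ n * y) * c ^ (n.choose 2) := by simp only [mul_assoc]
      _ = (c ^ n * x ^ n) * x * (y ^ n * y) * c ^ (n.choose 2) := by rw [h3.eq]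
      _ = c ^ n * (x ^ (n + 1) * y ^ (n + 1)) * c ^ (n.choose 2) := by
        rw [pow_succ x n, pow_succ y n]; simp only [mul_assoc]
      _ = (x ^ (n + 1) * y ^ (n + 1)) * c ^ n * c ^ (n.choose 2) := by rw [h4.eq]
      _ = x ^ (n + 1) * y ^ (n + 1) * c ^ ((n + 1).choose 2) := by
        rw [hch, pow_add c n (n.choose 2)]; simp only [mul_assoc]

theorem comm_swap (x y : G) : y * x = ⁅y, x⁆ * x * y := by
  rw [commutatorElement_def]; group

/-- For `p` odd, if commutators are central of order dividing `p`, the `p`-th power map is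
multiplicative. -/
theorem mul_pow_prime_of_central {p : ℕ} [hp : Fact p.Prime] (hp2 : p ≠ 2)
    (hcen : ∀ x y : G, ⁅x, y⁆ ∈ Subgroup.center G) (hexp : ∀ z ∈ Subgroup.center G, z ^ p = 1)
    (x y : G) : (x * y) ^ p = x ^ p * y ^ p := by
  have hc := hcen y x
  have h1 := mul_pow_class2 x y ⁅y, x⁆ (comm_swap x y)
    (Subgroup.mem_center_iff.mp hc x).symm (Subgroup.mem_center_iff.mp hc y).symm p
  have h2 : p ∣ p.choose 2 :=
    hp.out.dvd_choose_self (by norm_num) (by have := hp.out.two_le; omega)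
  obtain ⟨k, hk⟩ := h2
  rw [h1, hk, pow_mul, hexp _ hc, one_pow, mul_one]

end Class2

section Basic

variable {G : Type*} [Group G]

/-- Basic structure of a nonabelian group of order `p³`. -/
theorem center_facts [Finite G] (p : ℕ) [hp : Fact p.Prime] (hcard : Nat.card G = p ^ 3)
    (hna : ¬ ∀ a b : G, a * b = b * a) :
    Nat.card (Subgroup.center G) = p ∧ (∀ x : G, x ^ p ∈ Subgroup.center G) ∧
      (∀ x y : G, ⁅x, y⁆ ∈ Subgroup.center G) := by
  have hG : IsPGroup p G := IsPGroup.of_card hcard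
  haveI : Nontrivial G := by
    rw [← Finite.one_lt_card_iff_nontrivial, hcard]
    exact Nat.one_lt_pow (by norm_num) hp.out.one_lt
  have hZ : Nat.card (Subgroup.center G) = p := by
    obtain ⟨k, hk3, hk⟩ := (Nat.dvd_prime_pow hp.out).mp
      (hcard ▸ Subgroup.card_subgroup_dvd_card (Subgroup.center G))
    have hidx := (Subgroup.center G).card_mul_index
    rw [hcard, hk] at hidx
    interval_cases k
    · exfalso
      have h1 : Subgroup.center G = ⊥ := Subgroup.card_eq_one.mp (by simpa using hk)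
      exact (hG.bot_lt_center).ne' h1
    · simpa using hk
    · exfalso
      have h2 : (Subgroup.center G).index = p := by
        have : p ^ 2 * (Subgroup.center G).index = p ^ 2 * p := by rw [hidx]; ring
        exact Nat.eq_of_mul_eq_mul_left (pow_pos hp.out.pos 2) this
      haveI : Fact (Nat.card (G ⧸ Subgroup.center G)).Prime := ⟨by
        rw [← Subgroup.index_eq_card]; rw [h2]; exact hp.out⟩
      haveI : IsCyclic (G ⧸ Subgroup.center G) := isCyclic_of_prime_card rfl
      exact hna (commutative_of_cyclic_center_quotient (QuotientGroup.mk' (Subgroup.center G))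
        (by rw [QuotientGroup.ker_mk']))
    · exfalso
      have h1 : Subgroup.center G = ⊤ :=
        Subgroup.eq_top_of_card_eq _ (by rw [hk, hcard])
      exact hna (fun a b => (Subgroup.mem_center_iff.mp (h1 ▸ Subgroup.mem_top b) a))
  have hQ : Nat.card (G ⧸ Subgroup.center G) = p ^ 2 := by
    have hidx := (Subgroup.center G).card_mul_index
    rw [hcard, hZ] at hidx
    rw [← Subgroup.index_eq_card]
    have : p * (Subgroup.center G).index = p * p ^ 2 := by rw [hidx]; ring
    exact Nat.eq_of_mul_eq_mul_left hp.out.pos this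
  have hQcomm : ∀ a b : G ⧸ Subgroup.center G, a * b = b * a :=
    IsPGroup.commutative_of_card_eq_prime_sq hQ
  refine ⟨hZ, ?_, ?_⟩
  · intro x
    rw [← QuotientGroup.eq_one_iff, QuotientGroup.mk_pow]
    have hdvd : orderOf (x : G ⧸ Subgroup.center G) ∣ p ^ 2 := hQ ▸ orderOf_dvd_natCard _
    obtain ⟨k, hk2, hk⟩ := (Nat.dvd_prime_pow hp.out).mp hdvd
    interval_cases k
    · rw [pow_zero, orderOf_eq_one_iff] at hk; rw [hk, one_pow]
    · rw [pow_one] at hk; rw [← hk]; exact pow_orderOf_eq_one _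
    · exfalso
      haveI : IsCyclic (G ⧸ Subgroup.center G) :=
        isCyclic_of_orderOf_eq_card (x : G ⧸ Subgroup.center G) (by rw [hk, hQ])
      exact hna (commutative_of_cyclic_center_quotient (QuotientGroup.mk' (Subgroup.center G))
        (by rw [QuotientGroup.ker_mk']))
  · intro x y
    rw [← QuotientGroup.eq_one_iff]
    have h1 : ((⁅x, y⁆ : G) : G ⧸ Subgroup.center G)
        = ⁅(x : G ⧸ Subgroup.center G), (y : G ⧸ Subgroup.center G)⁆ := rfl
    rw [h1, commutatorElement_eq_one_iff_mul_comm]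
    exact hQcomm _ _

/-- A subgroup of prime order is generated by any of its nontrivial elements. -/
theorem eq_zpowers_of_prime_card [Finite G] {p : ℕ} [hp : Fact p.Prime] (Z : Subgroup G)
    (hZ : Nat.card Z = p) (c : G) (hc : c ∈ Z) (hc1 : c ≠ 1) : Subgroup.zpowers c = Z := by
  apply Subgroup.eq_of_le_of_card_ge (Subgroup.zpowers_le.mpr hc)
  rw [hZ, Nat.card_zpowers]
  have h1 : orderOf c ∣ p := by
    have := orderOf_dvd_natCard (⟨c, hc⟩ : Z)
    rw [hZ] at this
    rwa [← Subgroup.orderOf_mk c hc]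
  rcases (Nat.dvd_prime hp.out).mp h1 with h | h
  · exact absurd (orderOf_eq_one_iff.mp h) hc1
  · exact h.ge

theorem pow_eq_one_of_mem_of_card [Finite G] {p : ℕ} (Z : Subgroup G) (hZ : Nat.card Z = p)
    (z : G) (hz : z ∈ Z) : z ^ p = 1 := by
  have h1 : (⟨z, hz⟩ : Z) ^ Nat.card Z = 1 := pow_card_eq_one'
  rw [hZ] at h1
  simpa using congrArg Subtype.val h1

/-- A nonabelian group of order `p³` is extraspecial. -/
theorem isExtraspecial_of_card [Finite G] (p : ℕ) [hp : Fact p.Prime] (hcard : Nat.card G = p ^ 3)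
    (hna : ¬ ∀ a b : G, a * b = b * a) : Cfsg.IsExtraspecial p G := by
  have hG : IsPGroup p G := IsPGroup.of_card hcard
  obtain ⟨hZ, hpow, hcomm⟩ := center_facts p hcard hna
  push Not at hna
  obtain ⟨a, b, hab⟩ := hna
  have hc1 : ⁅a, b⁆ ≠ 1 := fun h => hab (commutatorElement_eq_one_iff_mul_comm.mp h)
  have hzp := eq_zpowers_of_prime_card (Subgroup.center G) hZ ⁅a, b⁆ (hcomm a b) hc1
  refine ⟨⟨hG, ?_, ?_⟩, hZ⟩
  · apply le_antisymm
    · exact Cfsg.Agent.Lib.Helper72.frattini_le_of_forall_pow_mem hp.out (Subgroup.center G) hpow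
        (fun x y => hcomm x y)
    · rw [← hzp, Subgroup.zpowers_le]
      exact Cfsg.Agent.Lib.Helper72.comm_mem_frattini hG a b
  · apply le_antisymm
    · rw [commutator_def, Subgroup.commutator_le]
      intro x _ y _
      exact hcomm x y
    · rw [← hzp, Subgroup.zpowers_le, commutator_def]
      exact Subgroup.commutator_mem_commutator (Subgroup.mem_top a) (Subgroup.mem_top b)

theorem center_char (β : MulAut G) : ∀ x ∈ Subgroup.center G, β x ∈ Subgroup.center G := by
  intro x hx
  rw [Subgroup.mem_center_iff] at hx ⊢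
  intro g
  have h1 := hx (β⁻¹ g)
  have h2 := congrArg β h1
  rw [map_mul, map_mul, MulAut.apply_inv_self] at h2
  exact h2

end Basic

section Chains

variable {G : Type*} [Group G]

/-- An abelian group of order `p³` that is not elementary abelian has a characteristic chain. -/
theorem abelian_chain [Finite G] (p : ℕ) [hp : Fact p.Prime] (hcard : Nat.card G = p ^ 3)
    (hcomm : ∀ a b : G, a * b = b * a) (a : G) (ha : a ^ p ≠ 1) :
    ∃ C₁ C₂ : Subgroup G, C₁ ≤ C₂ ∧ Nat.card C₁ = p ∧ Nat.card C₂ = p ^ 2 ∧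
      (∀ β : MulAut G, ∀ x ∈ C₁, β x ∈ C₁) ∧ (∀ β : MulAut G, ∀ x ∈ C₂, β x ∈ C₂) := by
  let φ : G →* G := MonoidHom.mk' (fun x => x ^ p)
    (fun x y => (show Commute x y from hcomm x y).mul_pow p)
  have hφ : ∀ x, φ x = x ^ p := fun x => rfl
  have hker : ∀ x, x ∈ φ.ker ↔ x ^ p = 1 := fun x => by rw [MonoidHom.mem_ker, hφ]
  have hrange : ∀ y, y ∈ φ.range ↔ ∃ x, x ^ p = y := fun y => by
    rw [MonoidHom.mem_range]; rfl
  have hmul : Nat.card φ.ker * Nat.card φ.range = p ^ 3 := by
    rw [← Subgroup.index_ker, Subgroup.card_mul_index, hcard]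
  have hkchar : ∀ β : MulAut G, ∀ x ∈ φ.ker, β x ∈ φ.ker := by
    intro β x hx; rw [hker] at hx ⊢; rw [← map_pow, hx, map_one]
  have hrchar : ∀ β : MulAut G, ∀ x ∈ φ.range, β x ∈ φ.range := by
    intro β y hy; rw [hrange] at hy ⊢; obtain ⟨x, rfl⟩ := hy; exact ⟨β x, (map_pow β x p).symm⟩
  obtain ⟨j, hj3, hj⟩ := (Nat.dvd_prime_pow hp.out).mp (Dvd.intro_left _ hmul)
  have hr1 : Nat.card φ.range ≠ 1 := by
    intro h1
    have h3 : φ.range = ⊥ := Subgroup.card_eq_one.mp h1
    have h2 : a ^ p ∈ φ.range := (hrange _).mpr ⟨a, rfl⟩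
    rw [h3, Subgroup.mem_bot] at h2
    exact ha h2
  have hk1 : Nat.card φ.ker ≠ 1 := by
    intro h1
    have hbot : φ.ker = ⊥ := Subgroup.card_eq_one.mp h1
    obtain ⟨g, hg⟩ := exists_prime_orderOf_dvd_card' (G := G) p
      (by rw [hcard]; exact dvd_pow_self p (by norm_num))
    have h2 : g ∈ φ.ker := (hker g).mpr (by rw [← hg]; exact pow_orderOf_eq_one g)
    rw [hbot, Subgroup.mem_bot] at h2
    rw [h2, orderOf_one] at hg
    exact hp.out.one_lt.ne hg
  rw [hj] at hmul
  interval_cases j
  · exact absurd (by simpa using hj) hr1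
  · -- range of order p, kernel of order p²
    have hr : Nat.card φ.range = p := by simpa using hj
    have hk : Nat.card φ.ker = p ^ 2 := by
      have : Nat.card φ.ker * p ^ 1 = p ^ 2 * p ^ 1 := by rw [hmul]; ring
      exact Nat.eq_of_mul_eq_mul_right (pow_pos hp.out.pos 1) this
    refine ⟨φ.range, φ.ker, ?_, hr, hk, hrchar, hkchar⟩
    intro y hy
    rw [hker]
    exact pow_eq_one_of_mem_of_card φ.range hr y hy
  · -- range of order p², kernel of order p
    have hr : Nat.card φ.range = p ^ 2 := hj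
    have hk : Nat.card φ.ker = p := by
      have : Nat.card φ.ker * p ^ 2 = p * p ^ 2 := by rw [hmul]; ring
      exact Nat.eq_of_mul_eq_mul_right (pow_pos hp.out.pos 2) this
    refine ⟨φ.ker, φ.range, ?_, hk, hr, hkchar, hrchar⟩
    obtain ⟨y, hy⟩ := exists_prime_orderOf_dvd_card' (G := ↥φ.range) p
      (by rw [hr]; exact dvd_pow_self p (by norm_num))
    have hy1 : (y : G) ≠ 1 := by
      intro h
      have : y = 1 := Subtype.ext h
      rw [this, orderOf_one] at hy
      exact hp.out.one_lt.ne hy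
    have hyk : (y : G) ∈ φ.ker := by
      rw [hker]
      have := pow_orderOf_eq_one y
      rw [hy] at this
      simpa using congrArg Subtype.val this
    rw [← eq_zpowers_of_prime_card φ.ker hk (y : G) hyk hy1, Subgroup.zpowers_le]
    exact y.2
  · exfalso
    apply hk1
    have : Nat.card φ.ker * p ^ 3 = 1 * p ^ 3 := by rw [hmul]; ring
    exact Nat.eq_of_mul_eq_mul_right (pow_pos hp.out.pos 3) this

/-- A nonabelian group of order `p³`, `p` odd, not of exponent `p`, has a characteristic chain. -/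
theorem nonabelian_odd_chain [Finite G] (p : ℕ) [hp : Fact p.Prime] (hp2 : p ≠ 2)
    (hcard : Nat.card G = p ^ 3) (hna : ¬ ∀ a b : G, a * b = b * a) (a : G) (ha : a ^ p ≠ 1) :
    ∃ C₁ C₂ : Subgroup G, C₁ ≤ C₂ ∧ Nat.card C₁ = p ∧ Nat.card C₂ = p ^ 2 ∧
      (∀ β : MulAut G, ∀ x ∈ C₁, β x ∈ C₁) ∧ (∀ β : MulAut G, ∀ x ∈ C₂, β x ∈ C₂) := by
  obtain ⟨hZ, hpow, hcomm⟩ := center_facts p hcard hna
  have hexp : ∀ z ∈ Subgroup.center G, z ^ p = 1 :=
    fun z hz => pow_eq_one_of_mem_of_card _ hZ z hz
  let φ : G →* G := MonoidHom.mk' (fun x => x ^ p)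
    (fun x y => mul_pow_prime_of_central hp2 hcomm hexp x y)
  have hφ : ∀ x, φ x = x ^ p := fun x => rfl
  have hker : ∀ x, x ∈ φ.ker ↔ x ^ p = 1 := fun x => by rw [MonoidHom.mem_ker, hφ]
  have hrange : φ.range = Subgroup.center G := by
    have h1 : Subgroup.zpowers (a ^ p) = Subgroup.center G :=
      eq_zpowers_of_prime_card _ hZ (a ^ p) (hpow a) ha
    apply le_antisymm
    · rintro _ ⟨x, rfl⟩; exact hpow x
    · rw [← h1, Subgroup.zpowers_le]; exact ⟨a, rfl⟩
  have hmul : Nat.card φ.ker * Nat.card φ.range = p ^ 3 := by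
    rw [← Subgroup.index_ker, Subgroup.card_mul_index, hcard]
  rw [hrange, hZ] at hmul
  have hk : Nat.card φ.ker = p ^ 2 := by
    have : Nat.card φ.ker * p = p ^ 2 * p := by rw [hmul]; ring
    exact Nat.eq_of_mul_eq_mul_right hp.out.pos this
  refine ⟨Subgroup.center G, φ.ker, ?_, hZ, hk, fun β => center_char β, ?_⟩
  · intro z hz; rw [hker]; exact hexp z hz
  · intro β x hx; rw [hker] at hx ⊢; rw [← map_pow, hx, map_one]

/-- A nonabelian group of order `8` is quaternion or has a characteristic chain. -/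
theorem nonabelian_two [Finite G] (hcard : Nat.card G = 2 ^ 3)
    (hna : ¬ ∀ a b : G, a * b = b * a) :
    Nonempty (G ≃* QuaternionGroup 2) ∨
    ∃ C₁ C₂ : Subgroup G, C₁ ≤ C₂ ∧ Nat.card C₁ = 2 ∧ Nat.card C₂ = 2 ^ 2 ∧
      (∀ β : MulAut G, ∀ x ∈ C₁, β x ∈ C₁) ∧ (∀ β : MulAut G, ∀ x ∈ C₂, β x ∈ C₂) := by
  haveI : Fact (Nat.Prime 2) := ⟨Nat.prime_two⟩
  obtain ⟨hZ, hpow, hcomm⟩ := center_facts 2 hcard hna
  have hexp : ∀ z ∈ Subgroup.center G, z ^ 2 = 1 :=
    fun z hz => pow_eq_one_of_mem_of_card _ hZ z hz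
  -- an element of order 4
  obtain ⟨a, ha⟩ : ∃ a : G, a ^ 2 ≠ 1 := by
    by_contra hcon
    push Not at hcon
    apply hna
    intro x y
    have h1 := hcon (x * y)
    have hx := hcon x
    have hy := hcon y
    have hx' : x⁻¹ = x := by rw [inv_eq_iff_mul_eq_one, ← sq]; exact hx
    have hy' : y⁻¹ = y := by rw [inv_eq_iff_mul_eq_one, ← sq]; exact hy
    have h2 : (x * y)⁻¹ = x * y := by rw [inv_eq_iff_mul_eq_one, ← sq]; exact h1
    rw [mul_inv_rev, hx', hy'] at h2
    exact h2.symm
  have ha4 : a ^ 4 = 1 := by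
    have := hexp _ (hpow a)
    rw [← pow_mul] at this; exact this
  have hoa : orderOf a = 4 := by
    have := orderOf_eq_prime_pow (p := 2) (n := 1) (x := a) (by simpa using ha) (by simpa using ha4)
    simpa using this
  have hZa : Subgroup.zpowers (a ^ 2) = Subgroup.center G :=
    eq_zpowers_of_prime_card _ hZ (a ^ 2) (hpow a) ha
  -- nontrivial central elements equal a²
  have hZ2 : ∀ z ∈ Subgroup.center G, z = 1 ∨ z = a ^ 2 := by
    intro z hz
    rw [← hZa] at hz
    obtain ⟨k, rfl⟩ := Subgroup.mem_zpowers_iff.mp hz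
    rcases Int.emod_two_eq_zero_or_one k with h | h
    · left
      obtain ⟨m, hm⟩ := Int.dvd_of_emod_eq_zero h
      have h4 : (a ^ 2) ^ (2 : ℤ) = 1 := by
        rw [show (2 : ℤ) = ((2 : ℕ) : ℤ) from rfl, zpow_natCast, ← pow_mul]; exact ha4
      rw [hm, zpow_mul, h4, one_zpow]
    · right
      have hk : k = 2 * (k / 2) + 1 := by omega
      have h4 : (a ^ 2) ^ (2 : ℤ) = 1 := by
        rw [show (2 : ℤ) = ((2 : ℕ) : ℤ) from rfl, zpow_natCast, ← pow_mul]; exact ha4
      rw [hk, zpow_add, zpow_mul, zpow_one, h4, one_zpow, one_mul]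
  have hA : Nat.card (Subgroup.zpowers a) = 2 ^ 2 := by rw [Nat.card_zpowers, hoa]; norm_num
  have hidx : (Subgroup.zpowers a).index = 2 := by
    have := (Subgroup.zpowers a).card_mul_index
    rw [hcard, hA] at this
    omega
  by_cases hb : ∃ b : G, b ∉ Subgroup.zpowers a ∧ b ^ 2 ≠ 1
  · left
    obtain ⟨b, hbA, hb2⟩ := hb
    have hb2' : b ^ 2 = a ^ 2 := by
      rcases hZ2 _ (hpow b) with h | h
      · exact absurd h hb2
      · exact h
    have hconj : b * a * b⁻¹ = a⁻¹ := by
      rcases hZ2 _ (hcomm b a) with h | h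
      · exfalso
        -- a commutes with b, hence is central
        have hab : b * a = a * b := commutatorElement_eq_one_iff_mul_comm.mp h
        have hac : a ∈ Subgroup.center G := by
          rw [Subgroup.mem_center_iff]
          intro g
          by_cases hg : g ∈ Subgroup.zpowers a
          · obtain ⟨k, rfl⟩ := Subgroup.mem_zpowers_iff.mp hg
            exact ((Commute.refl a).zpow_left k).eq
          · have h1 : b⁻¹ * g ∈ Subgroup.zpowers a := by
              rw [Subgroup.mul_mem_iff_of_index_two hidx]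
              constructor
              · intro h2; exact absurd ((Subgroup.inv_mem_iff _).mp h2) hbA
              · intro h2; exact absurd h2 hg
            obtain ⟨k, hk⟩ := Subgroup.mem_zpowers_iff.mp h1
            have hg' : g = b * a ^ k := by rw [hk]; group
            rw [hg']
            have h3 : Commute (b * a ^ k) a :=
              (show Commute b a from hab).mul_left ((Commute.refl a).zpow_left k)
            exact h3.eq
        rcases hZ2 a hac with h1 | h1
        · rw [h1] at ha; simp at ha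
        · have : a = 1 := by
            have h2 : a * 1 = a * a := by rw [mul_one, ← sq]; exact h1
            exact (mul_left_cancel h2).symm
          rw [this] at ha; simp at ha
      · have h1 : b * a * b⁻¹ = ⁅b, a⁆ * a := by rw [commutatorElement_def]; group
        rw [h1, h, eq_inv_iff_mul_eq_one]
        calc a ^ 2 * a * a = a ^ 4 := by group
          _ = 1 := ha4
    exact Cfsg.Agent.Lib.Helper12.nonempty_mulEquiv_quaternion (m := 2) le_rfl a b
      (by rw [hcard]; norm_num) (by rw [hoa]) hb2' hconj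
  · right
    push Not at hb
    refine ⟨Subgroup.center G, Subgroup.zpowers a, ?_, hZ, hA, fun β => center_char β, ?_⟩
    · rw [← hZa, Subgroup.zpowers_le]; exact Subgroup.pow_mem _ (Subgroup.mem_zpowers a) 2
    · intro β x hx
      obtain ⟨k, rfl⟩ := Subgroup.mem_zpowers_iff.mp hx
      rw [map_zpow]
      apply Subgroup.zpow_mem
      by_contra hβ
      have h1 := hb (β a) hβ
      rw [← map_pow] at h1
      have h2 : β (a ^ 2) = β 1 := by rw [h1, map_one]
      exact ha (β.injective h2)

end Chains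

section Main

variable {G : Type*} [Group G]

/-- The classification used for essential subgroups of order `p³`. -/
theorem order_p3_cases [Finite G] (p : ℕ) [hp : Fact p.Prime] (hcard : Nat.card G = p ^ 3) :
    ((∀ a b : G, a * b = b * a) ∧ ∀ x : G, x ^ p = 1) ∨
    (Odd p ∧ Cfsg.IsExtraspecial p G ∧ ∀ x : G, x ^ p = 1) ∨
    (p = 2 ∧ Nonempty (G ≃* QuaternionGroup 2)) ∨
    ∃ C₁ C₂ : Subgroup G, C₁ ≤ C₂ ∧ Nat.card C₁ = p ∧ Nat.card C₂ = p ^ 2 ∧
      (∀ β : MulAut G, ∀ x ∈ C₁, β x ∈ C₁) ∧ (∀ β : MulAut G, ∀ x ∈ C₂, β x ∈ C₂) := by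
  by_cases hcomm : ∀ a b : G, a * b = b * a
  · by_cases hexp : ∀ x : G, x ^ p = 1
    · exact Or.inl ⟨hcomm, hexp⟩
    · push Not at hexp
      obtain ⟨a, ha⟩ := hexp
      exact Or.inr (Or.inr (Or.inr (abelian_chain p hcard hcomm a ha)))
  · by_cases hexp : ∀ x : G, x ^ p = 1
    · right; left
      have hp2 : p ≠ 2 := by
        rintro rfl
        apply hcomm
        intro x y
        have h1 := hexp (x * y)
        have hx := hexp x
        have hy := hexp y
        have hx' : x⁻¹ = x := by rw [inv_eq_iff_mul_eq_one, ← sq]; exact hx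
        have hy' : y⁻¹ = y := by rw [inv_eq_iff_mul_eq_one, ← sq]; exact hy
        have h2 : (x * y)⁻¹ = x * y := by rw [inv_eq_iff_mul_eq_one, ← sq]; exact h1
        rw [mul_inv_rev, hx', hy'] at h2
        exact h2.symm
      exact ⟨hp.out.odd_of_ne_two hp2, isExtraspecial_of_card p hcard hcomm, hexp⟩
    · push Not at hexp
      obtain ⟨a, ha⟩ := hexp
      by_cases hp2 : p = 2
      · subst hp2
        rcases nonabelian_two hcard hcomm with h | h
        · exact Or.inr (Or.inr (Or.inl ⟨rfl, h⟩))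
        · exact Or.inr (Or.inr (Or.inr h))
      · exact Or.inr (Or.inr (Or.inr (nonabelian_odd_chain p hp2 hcard hcomm a ha)))

end Main

end Cfsg.Agent.Lib.Helper91.OrderP3
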