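import Mathlib
import Cfsg.Prelude.Def_Transfer
import Cfsg.Agent.Lib.Helper72.Frattini
import Cfsg.Agent.Lib.Helper91.OrderP3

/-!
# Groups of order `p⁴`: tools for the classification of essential subgroups of order `p⁴`

General helpers (commutator homomorphisms, splitting off a central element outside the Frattini
subgroup) and the case of a centre of order `p` (then the group has a characteristic chain).
-/

set_option autoImplicit false
open Cfsg
open scoped commutatorElement

namespace Cfsg.Agent.Lib.Helper91.OrderP4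

open Cfsg.Agent.Lib.Helper91.OrderP3

section General

variable {G : Type*} [Group G]

theorem pow_mod_of_pow_eq_one (e : G) (n : ℕ) (he : e ^ n = 1) (k : ℕ) :
    e ^ (k % n) = e ^ k := by
  conv_rhs => rw [← Nat.div_add_mod k n, pow_add, pow_mul, he, one_pow, one_mul]

theorem pow_val_add (n : ℕ) [NeZero n] (e : G) (he : e ^ n = 1) (z w : ZMod n) :
    e ^ (z + w).val = e ^ z.val * e ^ w.val := by
  rw [ZMod.val_add, pow_mod_of_pow_eq_one e n he, pow_add]

theorem card_lt_card_of_lt [Finite G] {H K : Subgroup G} (h : H < K) :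
    Nat.card H < Nat.card K := by
  refine lt_of_le_of_ne (Subgroup.card_le_of_le h.le) ?_
  intro heq
  exact h.ne (Subgroup.eq_of_le_of_card_ge h.le heq.ge)

/-- A subgroup properly containing a subgroup of order `p^k`, of order dividing `p^(k+1)`, has
order `p^(k+1)`. -/
theorem card_eq_of_lt [Finite G] {p : ℕ} [hp : Fact p.Prime] {A K : Subgroup G} {k : ℕ}
    (hAK : A ≤ K) (hA : Nat.card A = p ^ k) (s : G) (hsK : s ∈ K) (hsA : s ∉ A)
    (hK : Nat.card K ∣ p ^ (k + 1)) : Nat.card K = p ^ (k + 1) := by
  obtain ⟨j, hj, hjK⟩ := (Nat.dvd_prime_pow hp.out).mp hK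
  have hlt : A < K := lt_of_le_of_ne hAK (fun h => hsA (h ▸ hsK))
  have h1 := card_lt_card_of_lt hlt
  rw [hA, hjK] at h1
  have h2 : k < j := (Nat.pow_lt_pow_iff_right hp.out.one_lt).mp h1
  have h3 : j = k + 1 := by omega
  rw [hjK, h3]

theorem eq_top_of_lt [Finite G] {p : ℕ} [hp : Fact p.Prime] {A K : Subgroup G} {k : ℕ}
    (hG : Nat.card G = p ^ (k + 1)) (hAK : A ≤ K) (hA : Nat.card A = p ^ k) (s : G)
    (hsK : s ∈ K) (hsA : s ∉ A) : K = ⊤ :=
  Subgroup.eq_top_of_card_eq _ (by
    rw [card_eq_of_lt hAK hA s hsK hsA (hG ▸ Subgroup.card_subgroup_dvd_card K), hG])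

theorem comm_mul_left (g h t : G) (ht : ⁅h, t⁆ ∈ Subgroup.center G) :
    ⁅g * h, t⁆ = ⁅g, t⁆ * ⁅h, t⁆ := by
  have hc := Subgroup.mem_center_iff.mp ht
  calc ⁅g * h, t⁆ = g * ⁅h, t⁆ * (t * g⁻¹ * t⁻¹) := by
        simp only [commutatorElement_def]; group
    _ = ⁅h, t⁆ * g * (t * g⁻¹ * t⁻¹) := by rw [hc g]
    _ = ⁅h, t⁆ * ⁅g, t⁆ := by simp only [commutatorElement_def]; group
    _ = ⁅g, t⁆ * ⁅h, t⁆ := (hc _).symm

/-- The homomorphism `g ↦ [g, t]` when all `[g, t]` are central. -/
def commHom (t : G) (ht : ∀ g : G, ⁅g, t⁆ ∈ Subgroup.center G) : G →* G :=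
  MonoidHom.mk' (fun g => ⁅g, t⁆) (fun g h => comm_mul_left g h t (ht h))

theorem commHom_apply (t : G) (ht : ∀ g : G, ⁅g, t⁆ ∈ Subgroup.center G) (g : G) :
    commHom t ht g = ⁅g, t⁆ := rfl

theorem mem_ker_commHom (t : G) (ht : ∀ g : G, ⁅g, t⁆ ∈ Subgroup.center G) (g : G) :
    g ∈ (commHom t ht).ker ↔ g * t = t * g := by
  rw [MonoidHom.mem_ker, commHom_apply, commutatorElement_eq_one_iff_mul_comm]

theorem range_commHom_le (t : G) (ht : ∀ g : G, ⁅g, t⁆ ∈ Subgroup.center G) :
    (commHom t ht).range ≤ Subgroup.center G := by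
  rintro _ ⟨g, rfl⟩; exact ht g

theorem card_ker_mul_card_range [Finite G] (f : G →* G) :
    Nat.card f.ker * Nat.card f.range = Nat.card G := by
  rw [← Subgroup.index_ker, Subgroup.card_mul_index]

/-- A central element of order dividing `p` outside the Frattini subgroup splits off as a direct
factor. -/
theorem split_of_not_mem_frattini [Finite G] {p : ℕ} [hp : Fact p.Prime] (z : G)
    (hz : z ∈ Subgroup.center G) (hzp : z ^ p = 1) (hzf : z ∉ frattini G) :
    ∃ M : Subgroup G, z ∉ M ∧ Nonempty (↥M × Multiplicative (ZMod p) ≃* G) ∧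
      Nat.card M * p = Nat.card G := by
  obtain ⟨M, hM, hzM⟩ : ∃ M : Subgroup G, IsCoatom M ∧ z ∉ M := by
    by_contra hcon
    push Not at hcon
    exact hzf (Cfsg.Agent.Lib.Helper72.mem_frattini_iff.mpr hcon)
  have hzc := Subgroup.mem_center_iff.mp hz
  let f : ↥M × Multiplicative (ZMod p) →* G :=
    MonoidHom.mk' (fun x => (x.1 : G) * z ^ (Multiplicative.toAdd x.2).val) (by
      rintro ⟨m₁, k₁⟩ ⟨m₂, k₂⟩
      show ((m₁ * m₂ : M) : G) * z ^ (Multiplicative.toAdd (k₁ * k₂)).val
        = (m₁ : G) * z ^ (Multiplicative.toAdd k₁).val * ((m₂ : G) * z ^ (Multiplicative.toAdd k₂).val)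
      rw [toAdd_mul, pow_val_add p z hzp, Subgroup.coe_mul]
      have hc : Commute (z ^ (Multiplicative.toAdd k₁).val) (m₂ : G) :=
        (show Commute z (m₂ : G) from (hzc m₂).symm).pow_left _
      calc (m₁ : G) * m₂ * (z ^ (Multiplicative.toAdd k₁).val * z ^ (Multiplicative.toAdd k₂).val)
          = m₁ * (m₂ * z ^ (Multiplicative.toAdd k₁).val) * z ^ (Multiplicative.toAdd k₂).val := by
            simp only [mul_assoc]
        _ = m₁ * (z ^ (Multiplicative.toAdd k₁).val * m₂) * z ^ (Multiplicative.toAdd k₂).val := by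
            rw [hc.eq]
        _ = _ := by simp only [mul_assoc])
  have hf : ∀ x : ↥M × Multiplicative (ZMod p),
      f x = (x.1 : G) * z ^ (Multiplicative.toAdd x.2).val := fun x => rfl
  have hinj : Function.Injective f := by
    rw [injective_iff_map_eq_one]
    rintro ⟨m, k⟩ h
    have h' : (m : G) * z ^ (Multiplicative.toAdd k).val = 1 := h
    have hzk : z ^ (Multiplicative.toAdd k).val ∈ M := by
      have h1 : z ^ (Multiplicative.toAdd k).val = (m : G)⁻¹ := eq_inv_of_mul_eq_one_right h'
      rw [h1]; exact M.inv_mem m.2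
    have hk0 : (Multiplicative.toAdd k).val = 0 := by
      by_contra hne
      have hlt : (Multiplicative.toAdd k).val < p := ZMod.val_lt _
      have hcop : Nat.Coprime (Multiplicative.toAdd k).val p :=
        Nat.Coprime.symm ((Nat.Prime.coprime_iff_not_dvd hp.out).mpr
          (fun hd => hne (Nat.eq_zero_of_dvd_of_lt hd hlt)))
      obtain ⟨a, -, ha⟩ := Nat.exists_mul_mod_eq_one_of_coprime hcop hp.out.one_lt
      have h1 : z = (z ^ (Multiplicative.toAdd k).val) ^ a := by
        rw [← pow_mul, ← pow_mod_of_pow_eq_one z p hzp, ha, pow_one]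
      exact hzM (h1 ▸ M.pow_mem hzk a)
    have hk : k = 1 := by
      have h1 : Multiplicative.toAdd k = 0 := (ZMod.val_eq_zero _).mp hk0
      exact Multiplicative.toAdd.injective h1
    have hm : m = 1 := by
      rw [hk0, pow_zero, mul_one] at h'
      exact Subtype.ext h'
    rw [hm, hk]; rfl
  have hsurj : Function.Surjective f := by
    rw [← MonoidHom.range_eq_top]
    apply hM.2
    refine lt_of_le_of_ne ?_ ?_
    · intro m hm
      refine ⟨(⟨m, hm⟩, 1), ?_⟩
      rw [hf]
      simp
    · intro heq
      apply hzM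
      rw [heq]
      refine ⟨(1, Multiplicative.ofAdd (1 : ZMod p)), ?_⟩
      rw [hf]
      simp [ZMod.val_one]
  refine ⟨M, hzM, ⟨MulEquiv.ofBijective f ⟨hinj, hsurj⟩⟩, ?_⟩
  rw [← Nat.card_congr (MulEquiv.ofBijective f ⟨hinj, hsurj⟩).toEquiv, Nat.card_prod]
  congr 1
  rw [Nat.card_congr Multiplicative.toAdd, Nat.card_zmod]

end General

section CenterPrime

variable {G : Type*} [Group G]

/-- A group of order `p⁴` with centre of order `p` has a characteristic chain. -/
theorem chain_of_center_prime [Finite G] (p : ℕ) [hp : Fact p.Prime] (hcard : Nat.card G = p ^ 4)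
    (hZ : Nat.card (Subgroup.center G) = p) :
    ∃ C₁ C₂ C₃ : Subgroup G, C₁ ≤ C₂ ∧ C₂ ≤ C₃ ∧ Nat.card C₁ = p ∧ Nat.card C₂ = p ^ 2 ∧
      Nat.card C₃ = p ^ 3 ∧ (∀ β : MulAut G, ∀ x ∈ C₁, β x ∈ C₁) ∧
      (∀ β : MulAut G, ∀ x ∈ C₂, β x ∈ C₂) ∧ (∀ β : MulAut G, ∀ x ∈ C₃, β x ∈ C₃) := by
  have hQ : Nat.card (G ⧸ Subgroup.center G) = p ^ 3 := by
    have hidx := (Subgroup.center G).card_mul_index
    rw [hcard, hZ] at hidx
    rw [← Subgroup.index_eq_card]
    have : p * (Subgroup.center G).index = p * p ^ 3 := by rw [hidx]; ring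
    exact Nat.eq_of_mul_eq_mul_left hp.out.pos this
  have hZne : ∃ t : G, t ∉ Subgroup.center G := by
    by_contra hcon
    push Not at hcon
    have h1 : Subgroup.center G = ⊤ := top_le_iff.mp (fun x _ => hcon x)
    have h2 := Subgroup.card_top (G := G)
    rw [← h1, hZ, hcard] at h2
    have h3 : p ^ 1 = p ^ 4 := by rw [pow_one]; exact h2
    exact absurd (Nat.pow_right_injective hp.out.two_le h3) (by norm_num)
  -- kernel of a commutator map onto the centre has order p³
  have hker : ∀ (t : G) (ht : ∀ g : G, ⁅g, t⁆ ∈ Subgroup.center G), t ∉ Subgroup.center G →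
      Nat.card (commHom t ht).ker = p ^ 3 := by
    intro t ht htZ
    have hr : (commHom t ht).range = Subgroup.center G := by
      obtain ⟨g, hg⟩ : ∃ g : G, ⁅g, t⁆ ≠ 1 := by
        by_contra hcon
        push Not at hcon
        apply htZ
        rw [Subgroup.mem_center_iff]
        intro g
        exact commutatorElement_eq_one_iff_mul_comm.mp (hcon g)
      rw [← eq_zpowers_of_prime_card _ hZ ⁅g, t⁆ (ht g) hg]
      apply le_antisymm
      · intro y hy
        have h1 := range_commHom_le t ht hy
        rwa [← eq_zpowers_of_prime_card _ hZ ⁅g, t⁆ (ht g) hg] at h1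
      · rw [Subgroup.zpowers_le]; exact ⟨g, rfl⟩
    have hmul := card_ker_mul_card_range (commHom t ht)
    rw [hr, hZ, hcard] at hmul
    have : Nat.card (commHom t ht).ker * p = p ^ 3 * p := by rw [hmul]; ring
    exact Nat.eq_of_mul_eq_mul_right hp.out.pos this
  by_cases hq : ∀ a b : G ⧸ Subgroup.center G, a * b = b * a
  · -- class two: impossible
    exfalso
    have hcomm : ∀ x y : G, ⁅x, y⁆ ∈ Subgroup.center G := by
      intro x y
      rw [← QuotientGroup.eq_one_iff]
      have h1 : ((⁅x, y⁆ : G) : G ⧸ Subgroup.center G)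
          = ⁅(x : G ⧸ Subgroup.center G), (y : G ⧸ Subgroup.center G)⁆ := rfl
      rw [h1, commutatorElement_eq_one_iff_mul_comm]
      exact hq _ _
    obtain ⟨t, htZ⟩ := hZne
    have hA := hker t (fun g => hcomm g t) htZ
    set A := (commHom t (fun g => hcomm g t)).ker with hAdef
    have hZA : Subgroup.center G ≤ A := by
      intro z hz
      rw [hAdef, mem_ker_commHom]
      exact (Subgroup.mem_center_iff.mp hz t).symm
    have htA : t ∈ A := by rw [hAdef, mem_ker_commHom]
    -- A is abelian
    have hAcomm : ∀ a b : ↥A, a * b = b * a := by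
      by_contra hna
      obtain ⟨hZA', -, -⟩ := center_facts p hA hna
      have hW : (Subgroup.center G).subgroupOf A < Subgroup.center ↥A := by
        refine lt_of_le_of_ne ?_ ?_
        · intro x hx
          rw [Subgroup.mem_subgroupOf] at hx
          rw [Subgroup.mem_center_iff]
          intro g
          exact Subtype.ext (Subgroup.mem_center_iff.mp hx (g : G))
        · intro heq
          have h1 : (⟨t, htA⟩ : ↥A) ∈ Subgroup.center ↥A := by
            rw [Subgroup.mem_center_iff]
            intro g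
            apply Subtype.ext
            have := (mem_ker_commHom t (fun g => hcomm g t) (g : G)).mp g.2
            exact this
          rw [← heq, Subgroup.mem_subgroupOf] at h1
          exact htZ h1
      have h2 := card_lt_card_of_lt hW
      rw [hZA', Nat.card_congr (Subgroup.subgroupOfEquivOfLe hZA).toEquiv, hZ] at h2
      exact lt_irrefl _ h2
    obtain ⟨s, hsA⟩ : ∃ s : G, s ∉ A := by
      by_contra hcon
      push Not at hcon
      have h1 : A = ⊤ := top_le_iff.mp (fun x _ => hcon x)
      have h2 := Subgroup.card_top (G := G)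
      rw [← h1, hA, hcard] at h2
      exact absurd (Nat.pow_right_injective hp.out.two_le h2) (by norm_num)
    let f : ↥A →* G := (commHom s (fun g => hcomm g s)).comp A.subtype
    have hfr : Nat.card f.range ≤ p := by
      have h1 : f.range ≤ Subgroup.center G := by
        rintro _ ⟨x, rfl⟩; exact hcomm _ _
      exact hZ ▸ Subgroup.card_le_of_le h1
    have hfk : Nat.card f.ker ≤ p := by
      have hkz : ∀ x : f.ker, ((x : ↥A) : G) ∈ Subgroup.center G := by
        intro x
        have hx : ((x : ↥A) : G) * s = s * ((x : ↥A) : G) := by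
          have := x.2
          rw [MonoidHom.mem_ker] at this
          exact commutatorElement_eq_one_iff_mul_comm.mp this
        have hcen : Subgroup.centralizer ({((x : ↥A) : G)} : Set G) = ⊤ := by
          apply eq_top_of_lt (k := 3) hcard (A := A) _ hA s
          · rw [Subgroup.mem_centralizer_iff]
            intro y hy
            rw [Set.mem_singleton_iff] at hy
            rw [hy]; exact hx
          · exact hsA
          · intro a ha
            rw [Subgroup.mem_centralizer_iff]
            intro y hy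
            rw [Set.mem_singleton_iff] at hy
            rw [hy]
            have := hAcomm ⟨a, ha⟩ (x : ↥A)
            exact (congrArg Subtype.val this).symm
        rw [Subgroup.mem_center_iff]
        intro g
        have hg : g ∈ Subgroup.centralizer ({((x : ↥A) : G)} : Set G) := by
          rw [hcen]; exact Subgroup.mem_top g
        rw [Subgroup.mem_centralizer_iff] at hg
        exact (hg _ rfl).symm
      have hinj : Function.Injective
          (fun x : f.ker => (⟨((x : ↥A) : G), hkz x⟩ : Subgroup.center G)) := by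
        intro x y hxy
        have h1 : ((x : ↥A) : G) = ((y : ↥A) : G) :=
          congrArg (fun w : Subgroup.center G => (w : G)) hxy
        exact Subtype.ext (Subtype.ext h1)
      exact hZ ▸ Nat.card_le_card_of_injective _ hinj
    have hmul : Nat.card f.ker * Nat.card f.range = p ^ 3 := by
      rw [← Subgroup.index_ker, Subgroup.card_mul_index, hA]
    have h1 : p ^ 3 ≤ p * p := hmul ▸ Nat.mul_le_mul hfk hfr
    have h2 : p * p < p ^ 3 := by
      have : p * p = p ^ 2 := by ring
      rw [this]
      exact Nat.pow_lt_pow_right hp.out.one_lt (by norm_num)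
    exact absurd h1 (not_le.mpr h2)
  · -- class three
    obtain ⟨hZQ, -, -⟩ := center_facts p hQ hq
    set Z := Subgroup.center G with hZdef
    let Z₂ : Subgroup G := (Subgroup.center (G ⧸ Z)).comap (QuotientGroup.mk' Z)
    have hmemZ₂ : ∀ x : G, x ∈ Z₂ ↔ ∀ y : G, ⁅x, y⁆ ∈ Z := by
      intro x
      show (QuotientGroup.mk' Z x) ∈ Subgroup.center (G ⧸ Z) ↔ _
      rw [Subgroup.mem_center_iff]
      constructor
      · intro h y
        rw [← QuotientGroup.eq_one_iff]
        have h1 : ((⁅x, y⁆ : G) : G ⧸ Z) = ⁅(x : G ⧸ Z), (y : G ⧸ Z)⁆ := rfl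
        rw [h1, commutatorElement_eq_one_iff_mul_comm]
        exact (h (y : G ⧸ Z)).symm
      · intro h q
        obtain ⟨y, rfl⟩ := QuotientGroup.mk_surjective q
        have h2 := h y
        rw [← QuotientGroup.eq_one_iff] at h2
        have h1 : ((⁅x, y⁆ : G) : G ⧸ Z) = ⁅(x : G ⧸ Z), (y : G ⧸ Z)⁆ := rfl
        rw [h1, commutatorElement_eq_one_iff_mul_comm] at h2
        exact h2.symm
    have hZ₂card : Nat.card Z₂ = p ^ 2 := by
      have h1 : Z₂.index = (Subgroup.center (G ⧸ Z)).index :=
        Subgroup.index_comap_of_surjective _ (QuotientGroup.mk'_surjective Z)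
      have h2 := (Subgroup.center (G ⧸ Z)).card_mul_index
      rw [hZQ, hQ] at h2
      have h3 : (Subgroup.center (G ⧸ Z)).index = p ^ 2 := by
        have : p * (Subgroup.center (G ⧸ Z)).index = p * p ^ 2 := by rw [h2]; ring
        exact Nat.eq_of_mul_eq_mul_left hp.out.pos this
      have h4 := Z₂.card_mul_index
      rw [h1, h3, hcard] at h4
      have : Nat.card Z₂ * p ^ 2 = p ^ 2 * p ^ 2 := by rw [h4]; ring
      exact Nat.eq_of_mul_eq_mul_right (pow_pos hp.out.pos 2) this
    have hZZ₂ : Z ≤ Z₂ := by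
      intro z hz
      rw [hmemZ₂]
      intro y
      have : ⁅z, y⁆ = 1 :=
        commutatorElement_eq_one_iff_mul_comm.mpr (Subgroup.mem_center_iff.mp hz y).symm
      rw [this]; exact Subgroup.one_mem _
    have hZ₂char : ∀ β : MulAut G, ∀ x ∈ Z₂, β x ∈ Z₂ := by
      intro β x hx
      rw [hmemZ₂] at hx ⊢
      intro y
      have h1 := center_char β _ (hx (β⁻¹ y))
      rw [map_commutatorElement, MulAut.apply_inv_self] at h1
      exact h1
    obtain ⟨t, htZ₂, htZ⟩ : ∃ t : G, t ∈ Z₂ ∧ t ∉ Z := by
      by_contra hcon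
      push Not at hcon
      have h1 : Z₂ = Z := le_antisymm (fun x hx => hcon x hx) hZZ₂
      rw [h1, hZ] at hZ₂card
      have h3 : p ^ 1 = p ^ 2 := by rw [pow_one]; exact hZ₂card
      exact absurd (Nat.pow_right_injective hp.out.two_le h3) (by norm_num)
    have htc : ∀ g : G, ⁅g, t⁆ ∈ Z := by
      intro g
      have h1 := (hmemZ₂ t).mp htZ₂ g
      have h2 : ⁅g, t⁆ = ⁅t, g⁆⁻¹ := (commutatorElement_inv t g).symm
      rw [h2]; exact Z.inv_mem h1
    have hZ₂comm : ∀ a b : ↥Z₂, a * b = b * a :=
      IsPGroup.commutative_of_card_eq_prime_sq hZ₂card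
    let C₃ : Subgroup G := Subgroup.centralizer (Z₂ : Set G)
    have hC₃eq : C₃ = (commHom t htc).ker := by
      ext g
      rw [mem_ker_commHom]
      constructor
      · intro hg
        exact (Subgroup.mem_centralizer_iff.mp hg t htZ₂).symm
      · intro hg
        show g ∈ Subgroup.centralizer (Z₂ : Set G)
        rw [Subgroup.mem_centralizer_iff]
        intro x hx
        have hK : Subgroup.centralizer ({g} : Set G) ⊓ Z₂ = Z₂ := by
          apply Subgroup.eq_of_le_of_card_ge inf_le_right
          rw [hZ₂card]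
          have h1 : Nat.card ↥(Subgroup.centralizer ({g} : Set G) ⊓ Z₂) = p ^ (1 + 1) := by
            apply card_eq_of_lt (A := Z) (k := 1) _ (by rw [pow_one]; exact hZ) t
            · refine Subgroup.mem_inf.mpr ⟨?_, htZ₂⟩
              rw [Subgroup.mem_centralizer_iff]
              intro y hy
              rw [Set.mem_singleton_iff] at hy
              rw [hy]; exact hg
            · exact htZ
            · rw [← hZ₂card]
              exact Subgroup.card_dvd_of_le inf_le_right
            · intro z hz
              refine Subgroup.mem_inf.mpr ⟨?_, hZZ₂ hz⟩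
              rw [Subgroup.mem_centralizer_iff]
              intro y hy
              rw [Set.mem_singleton_iff] at hy
              rw [hy]; exact (Subgroup.mem_center_iff.mp hz g)
          exact h1.ge
        have hx' : x ∈ Subgroup.centralizer ({g} : Set G) := by
          have : x ∈ Subgroup.centralizer ({g} : Set G) ⊓ Z₂ := by rw [hK]; exact hx
          exact (Subgroup.mem_inf.mp this).1
        rw [Subgroup.mem_centralizer_iff] at hx'
        exact (hx' g rfl).symm
    have hC₃card : Nat.card C₃ = p ^ 3 := by rw [hC₃eq]; exact hker t htc htZ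
    refine ⟨Z, Z₂, C₃, hZZ₂, ?_, hZ, hZ₂card, hC₃card, fun β => center_char β, hZ₂char, ?_⟩
    · intro x hx
      show x ∈ Subgroup.centralizer (Z₂ : Set G)
      rw [Subgroup.mem_centralizer_iff]
      intro y hy
      exact congrArg Subtype.val (hZ₂comm ⟨y, hy⟩ ⟨x, hx⟩)
    · intro β g hg
      show β g ∈ Subgroup.centralizer (Z₂ : Set G)
      have hg' : g ∈ Subgroup.centralizer (Z₂ : Set G) := hg
      rw [Subgroup.mem_centralizer_iff] at hg' ⊢
      intro x hx
      have h1 := hg' (β⁻¹ x) (hZ₂char β⁻¹ x hx)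
      have h2 := congrArg β h1
      rw [map_mul, map_mul, MulAut.apply_inv_self] at h2
      exact h2

end CenterPrime

end Cfsg.Agent.Lib.Helper91.OrderP4
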