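import Mathlib
import Cfsg.Agent.Lib.Helper91.OrderP4

/-!
# Groups of order `p⁴` with centre of order `p²`
-/

set_option autoImplicit false
open Cfsg
open scoped commutatorElement

namespace Cfsg.Agent.Lib.Helper91.OrderP4

open Cfsg.Agent.Lib.Helper91.OrderP3

section CenterSq

variable {G : Type*} [Group G]

theorem facts_center_sq [Finite G] (p : ℕ) [hp : Fact p.Prime] (hcard : Nat.card G = p ^ 4)
    (hna : ¬ ∀ a b : G, a * b = b * a) (hZ : Nat.card (Subgroup.center G) = p ^ 2) :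
    (∀ x : G, x ^ p ∈ Subgroup.center G) ∧ (∀ x y : G, ⁅x, y⁆ ∈ Subgroup.center G) ∧
      (∀ x y : G, ⁅x, y⁆ ^ p = 1) := by
  have hQ : Nat.card (G ⧸ Subgroup.center G) = p ^ 2 := by
    have hidx := (Subgroup.center G).card_mul_index
    rw [hcard, hZ] at hidx
    rw [← Subgroup.index_eq_card]
    have : p ^ 2 * (Subgroup.center G).index = p ^ 2 * p ^ 2 := by rw [hidx]; ring
    exact Nat.eq_of_mul_eq_mul_left (pow_pos hp.out.pos 2) this
  have hQcomm : ∀ a b : G ⧸ Subgroup.center G, a * b = b * a :=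
    IsPGroup.commutative_of_card_eq_prime_sq hQ
  have hpow : ∀ x : G, x ^ p ∈ Subgroup.center G := by
    intro x
    rw [← QuotientGroup.eq_one_iff, QuotientGroup.mk_pow]
    have hdvd : orderOf (x : G ⧸ Subgroup.center G) ∣ p ^ 2 := hQ ▸ orderOf_dvd_natCard _
    obtain ⟨k, hk2, hk⟩ := (Nat.dvd_prime_pow hp.out).mp hdvd
    interval_cases k
    · rw [pow_zero, orderOf_eq_one_iff] at hk; rw [hk, one_pow]
    · rw [pow_one] at hk; rw [← hk]; exact pow_orderOf_eq_one _
    · exfalso
      have : IsCyclic (G ⧸ Subgroup.center G) :=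
        isCyclic_of_orderOf_eq_card (x : G ⧸ Subgroup.center G) (by rw [hk, hQ])
      exact hna (commutative_of_cyclic_center_quotient (QuotientGroup.mk' (Subgroup.center G))
        (by rw [QuotientGroup.ker_mk']))
  have hcomm : ∀ x y : G, ⁅x, y⁆ ∈ Subgroup.center G := by
    intro x y
    rw [← QuotientGroup.eq_one_iff]
    have h1 : ((⁅x, y⁆ : G) : G ⧸ Subgroup.center G)
        = ⁅(x : G ⧸ Subgroup.center G), (y : G ⧸ Subgroup.center G)⁆ := rfl
    rw [h1, commutatorElement_eq_one_iff_mul_comm]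
    exact hQcomm _ _
  refine ⟨hpow, hcomm, ?_⟩
  intro x y
  have hc := Subgroup.mem_center_iff.mp (hcomm x y)
  have h1 := pow_mul_comm_class2 y x ⁅x, y⁆ (comm_swap y x) (hc x).symm p
  have h2 := Subgroup.mem_center_iff.mp (hpow x) y
  rw [← h2, mul_assoc] at h1
  exact (mul_eq_right.mp h1.symm)

/-- In a group of order `p⁴` with centre of order `p²`, the centraliser of a noncentral element has
order `p³` and is abelian. -/
theorem cent_facts [Finite G] (p : ℕ) [hp : Fact p.Prime] (hcard : Nat.card G = p ^ 4)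
    (hZ : Nat.card (Subgroup.center G) = p ^ 2) (t : G)
    (ht : ∀ g : G, ⁅g, t⁆ ∈ Subgroup.center G) (htZ : t ∉ Subgroup.center G) :
    Nat.card (commHom t ht).ker = p ^ 3 ∧ ∀ a b : ↥(commHom t ht).ker, a * b = b * a := by
  set A := (commHom t ht).ker with hAdef
  have hZA : Subgroup.center G ≤ A := by
    intro z hz
    rw [hAdef, mem_ker_commHom]
    exact (Subgroup.mem_center_iff.mp hz t).symm
  have htA : t ∈ A := by rw [hAdef, mem_ker_commHom]
  have hAcard : Nat.card A = p ^ 3 := by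
    obtain ⟨j, hj4, hj⟩ := (Nat.dvd_prime_pow hp.out).mp
      (hcard ▸ Subgroup.card_subgroup_dvd_card A)
    have hlt : Subgroup.center G < A := lt_of_le_of_ne hZA (fun h => htZ (h ▸ htA))
    have h1 := card_lt_card_of_lt hlt
    rw [hZ, hj] at h1
    have h2 : 2 < j := (Nat.pow_lt_pow_iff_right hp.out.one_lt).mp h1
    have h3 : j ≠ 4 := by
      intro h4
      have hA4 : A = ⊤ := Subgroup.eq_top_of_card_eq _ (by rw [hj, h4, hcard])
      apply htZ
      rw [Subgroup.mem_center_iff]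
      intro g
      have hg : g ∈ A := hA4 ▸ Subgroup.mem_top g
      rw [hAdef, mem_ker_commHom] at hg
      exact hg
    have h4 : j = 3 := by omega
    rw [hj, h4]
  refine ⟨hAcard, ?_⟩
  by_contra hna
  obtain ⟨hZA', -, -⟩ := center_facts p hAcard hna
  have hW : (Subgroup.center G).subgroupOf A ≤ Subgroup.center ↥A := by
    intro x hx
    rw [Subgroup.mem_subgroupOf] at hx
    rw [Subgroup.mem_center_iff]
    intro g
    exact Subtype.ext (Subgroup.mem_center_iff.mp hx (g : G))
  have h2 := Subgroup.card_le_of_le hW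
  rw [hZA', Nat.card_congr (Subgroup.subgroupOfEquivOfLe hZA).toEquiv, hZ] at h2
  have h3 : p ^ 1 < p ^ 2 := Nat.pow_lt_pow_right hp.out.one_lt (by norm_num)
  rw [pow_one] at h3
  exact absurd h2 (not_le.mpr h3)

theorem exists_not_mem_of_card_lt [Finite G] (A : Subgroup G) (h : Nat.card A < Nat.card G) :
    ∃ s : G, s ∉ A := by
  by_contra hcon
  push Not at hcon
  have h1 : A = ⊤ := top_le_iff.mp (fun x _ => hcon x)
  rw [h1, Subgroup.card_top] at h
  exact lt_irrefl _ h

/-- The derived subgroup of a group of order `p⁴` with centre of order `p²` is generated by one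
central element of order `p`. -/
theorem exists_comm_gen [Finite G] (p : ℕ) [hp : Fact p.Prime] (hcard : Nat.card G = p ^ 4)
    (hZ : Nat.card (Subgroup.center G) = p ^ 2)
    (hcomm : ∀ x y : G, ⁅x, y⁆ ∈ Subgroup.center G) (hcp : ∀ x y : G, ⁅x, y⁆ ^ p = 1) :
    ∃ c : G, c ≠ 1 ∧ c ^ p = 1 ∧ c ∈ Subgroup.center G ∧
      (∀ x y : G, ⁅x, y⁆ ∈ Subgroup.zpowers c) ∧ (∀ β : MulAut G, β c ∈ Subgroup.zpowers c) := by
  have h23 : p ^ 2 < p ^ 4 := Nat.pow_lt_pow_right hp.out.one_lt (by norm_num)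
  have h34 : p ^ 3 < p ^ 4 := Nat.pow_lt_pow_right hp.out.one_lt (by norm_num)
  obtain ⟨t, htZ⟩ := exists_not_mem_of_card_lt (Subgroup.center G) (by rw [hZ, hcard]; exact h23)
  obtain ⟨hA, hAc⟩ := cent_facts p hcard hZ t (fun g => hcomm g t) htZ
  obtain ⟨s, hsA⟩ := exists_not_mem_of_card_lt (commHom t (fun g => hcomm g t)).ker
    (by rw [hA, hcard]; exact h34)
  have hsZ : s ∉ Subgroup.center G := by
    intro hs
    apply hsA
    rw [mem_ker_commHom]
    exact (Subgroup.mem_center_iff.mp hs t).symm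
  obtain ⟨hB, hBc⟩ := cent_facts p hcard hZ s (fun g => hcomm g s) hsZ
  have hc1 : ⁅s, t⁆ ≠ 1 := by
    intro h
    apply hsA
    rw [mem_ker_commHom]
    exact commutatorElement_eq_one_iff_mul_comm.mp h
  have hinvD : ∀ x y : G, ⁅x, y⁆ ∈ Subgroup.zpowers ⁅s, t⁆ → ⁅y, x⁆ ∈ Subgroup.zpowers ⁅s, t⁆ := by
    intro x y h
    have e : ⁅y, x⁆ = ⁅x, y⁆⁻¹ := (commutatorElement_inv x y).symm
    rw [e]
    exact Subgroup.inv_mem _ h
  -- step 1
  have h1 : ∀ x : G, ⁅x, t⁆ ∈ Subgroup.zpowers ⁅s, t⁆ := by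
    intro x
    have hK : (Subgroup.zpowers ⁅s, t⁆).comap (commHom t (fun g => hcomm g t)) = ⊤ := by
      apply eq_top_of_lt (k := 3) hcard (A := (commHom t (fun g => hcomm g t)).ker) _ hA s _ hsA
      · intro a ha
        rw [Subgroup.mem_comap, MonoidHom.mem_ker.mp ha]
        exact Subgroup.one_mem _
      · rw [Subgroup.mem_comap]; exact Subgroup.mem_zpowers _
    have hx : x ∈ (Subgroup.zpowers ⁅s, t⁆).comap (commHom t (fun g => hcomm g t)) := by
      rw [hK]; exact Subgroup.mem_top x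
    exact hx
  -- step 2
  have h2 : ∀ x : G, ⁅x, s⁆ ∈ Subgroup.zpowers ⁅s, t⁆ := by
    intro x
    have htB : t ∉ (commHom s (fun g => hcomm g s)).ker := by
      rw [mem_ker_commHom]
      intro h
      exact hc1 (commutatorElement_eq_one_iff_mul_comm.mpr h.symm)
    have hK : (Subgroup.zpowers ⁅s, t⁆).comap (commHom s (fun g => hcomm g s)) = ⊤ := by
      apply eq_top_of_lt (k := 3) hcard (A := (commHom s (fun g => hcomm g s)).ker) _ hB t _ htB
      · intro a ha
        rw [Subgroup.mem_comap, MonoidHom.mem_ker.mp ha]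
        exact Subgroup.one_mem _
      · rw [Subgroup.mem_comap]
        exact hinvD s t (Subgroup.mem_zpowers _)
    have hx : x ∈ (Subgroup.zpowers ⁅s, t⁆).comap (commHom s (fun g => hcomm g s)) := by
      rw [hK]; exact Subgroup.mem_top x
    exact hx
  -- step 3
  have h3 : ∀ x y : G, ⁅x, y⁆ ∈ Subgroup.zpowers ⁅s, t⁆ := by
    intro x y
    by_cases hy : y ∈ Subgroup.center G
    · have : ⁅x, y⁆ = 1 :=
        commutatorElement_eq_one_iff_mul_comm.mpr (Subgroup.mem_center_iff.mp hy x)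
      rw [this]; exact Subgroup.one_mem _
    · obtain ⟨hC, hCc⟩ := cent_facts p hcard hZ y (fun g => hcomm g y) hy
      have hsK : s ∈ (Subgroup.zpowers ⁅s, t⁆).comap (commHom y (fun g => hcomm g y)) := by
        rw [Subgroup.mem_comap]; exact hinvD y s (h2 y)
      have htK : t ∈ (Subgroup.zpowers ⁅s, t⁆).comap (commHom y (fun g => hcomm g y)) := by
        rw [Subgroup.mem_comap]; exact hinvD y t (h1 y)
      have hle : (commHom y (fun g => hcomm g y)).ker
          ≤ (Subgroup.zpowers ⁅s, t⁆).comap (commHom y (fun g => hcomm g y)) := by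
        intro a ha
        rw [Subgroup.mem_comap, MonoidHom.mem_ker.mp ha]
        exact Subgroup.one_mem _
      have hK : (Subgroup.zpowers ⁅s, t⁆).comap (commHom y (fun g => hcomm g y)) = ⊤ := by
        by_cases hs : s ∈ (commHom y (fun g => hcomm g y)).ker
        · by_cases ht' : t ∈ (commHom y (fun g => hcomm g y)).ker
          · exfalso
            rw [mem_ker_commHom] at hs ht'
            -- y ∈ A, and s centralises y
            have hyA : y ∈ (commHom t (fun g => hcomm g t)).ker := by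
              rw [mem_ker_commHom]; exact ht'.symm
            have hcen : Subgroup.centralizer ({y} : Set G) = ⊤ := by
              apply eq_top_of_lt (k := 3) hcard
                (A := (commHom t (fun g => hcomm g t)).ker) _ hA s _ hsA
              · intro a ha
                rw [Subgroup.mem_centralizer_iff]
                intro w hw
                rw [Set.mem_singleton_iff] at hw
                rw [hw]
                exact congrArg Subtype.val (hAc ⟨y, hyA⟩ ⟨a, ha⟩)
              · rw [Subgroup.mem_centralizer_iff]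
                intro w hw
                rw [Set.mem_singleton_iff] at hw
                rw [hw]; exact hs.symm
            apply hy
            rw [Subgroup.mem_center_iff]
            intro g
            have hg : g ∈ Subgroup.centralizer ({y} : Set G) := by
              rw [hcen]; exact Subgroup.mem_top g
            rw [Subgroup.mem_centralizer_iff] at hg
            exact (hg _ rfl).symm
          · exact eq_top_of_lt (k := 3) hcard hle hC t htK ht'
        · exact eq_top_of_lt (k := 3) hcard hle hC s hsK hs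
      have hx : x ∈ (Subgroup.zpowers ⁅s, t⁆).comap (commHom y (fun g => hcomm g y)) := by
        rw [hK]; exact Subgroup.mem_top x
      exact hx
  refine ⟨⁅s, t⁆, hc1, hcp s t, hcomm s t, h3, ?_⟩
  intro β
  rw [map_commutatorElement]
  exact h3 _ _

theorem mul_pow_prime_of_comm {p : ℕ} [hp : Fact p.Prime] (hp2 : p ≠ 2)
    (hcen : ∀ x y : G, ⁅x, y⁆ ∈ Subgroup.center G) (hcp : ∀ x y : G, ⁅x, y⁆ ^ p = 1)
    (x y : G) : (x * y) ^ p = x ^ p * y ^ p := by
  have hc := hcen y x
  have h1 := mul_pow_class2 x y ⁅y, x⁆ (comm_swap x y)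
    (Subgroup.mem_center_iff.mp hc x).symm (Subgroup.mem_center_iff.mp hc y).symm p
  have h2 : p ∣ p.choose 2 :=
    hp.out.dvd_choose_self (by norm_num) (by have := hp.out.two_le; omega)
  obtain ⟨k, hk⟩ := h2
  rw [h1, hk, pow_mul, hcp, one_pow, mul_one]

theorem mul_pow_prime_sq_of_comm {p : ℕ} [hp : Fact p.Prime]
    (hcen : ∀ x y : G, ⁅x, y⁆ ∈ Subgroup.center G) (hcp : ∀ x y : G, ⁅x, y⁆ ^ p = 1)
    (x y : G) : (x * y) ^ (p ^ 2) = x ^ (p ^ 2) * y ^ (p ^ 2) := by
  have hc := hcen y x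
  have h1 := mul_pow_class2 x y ⁅y, x⁆ (comm_swap x y)
    (Subgroup.mem_center_iff.mp hc x).symm (Subgroup.mem_center_iff.mp hc y).symm (p ^ 2)
  have h2 : p ∣ (p ^ 2).choose 2 := by
    apply hp.out.dvd_choose_pow (by norm_num)
    have h4 : 2 ^ 2 ≤ p ^ 2 := Nat.pow_le_pow_left hp.out.two_le 2
    omega
  obtain ⟨k, hk⟩ := h2
  rw [h1, hk, pow_mul, hcp, one_pow, mul_one]

theorem zpowers_char_of_map_mem (c : G) (h : ∀ β : MulAut G, β c ∈ Subgroup.zpowers c)
    (β : MulAut G) : ∀ x ∈ Subgroup.zpowers c, β x ∈ Subgroup.zpowers c := by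
  intro x hx
  obtain ⟨k, rfl⟩ := Subgroup.mem_zpowers_iff.mp hx
  rw [map_zpow]
  exact Subgroup.zpow_mem _ (h β) k

theorem card_zpowers_of_pow_prime {p : ℕ} [hp : Fact p.Prime] (c : G) (hc1 : c ≠ 1)
    (hcp : c ^ p = 1) : Nat.card (Subgroup.zpowers c) = p := by
  rw [Nat.card_zpowers]
  exact orderOf_eq_prime hcp hc1

open scoped IsMulCommutative in
/-- Centre cyclic of order `p²`, exponent `p³`: a characteristic chain. -/
theorem chain_of_exp_cube [Finite G] (p : ℕ) [hp : Fact p.Prime] (hcard : Nat.card G = p ^ 4)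
    (hZ : Nat.card (Subgroup.center G) = p ^ 2) (hcyc : IsCyclic ↥(Subgroup.center G))
    (hpow : ∀ x : G, x ^ p ∈ Subgroup.center G)
    (hcomm : ∀ x y : G, ⁅x, y⁆ ∈ Subgroup.center G) (hcp : ∀ x y : G, ⁅x, y⁆ ^ p = 1)
    (a : G) (ha : a ^ (p ^ 2) ≠ 1) :
    ∃ C₁ C₂ C₃ : Subgroup G, C₁ ≤ C₂ ∧ C₂ ≤ C₃ ∧ Nat.card C₁ = p ∧ Nat.card C₂ = p ^ 2 ∧
      Nat.card C₃ = p ^ 3 ∧ (∀ β : MulAut G, ∀ x ∈ C₁, β x ∈ C₁) ∧
      (∀ β : MulAut G, ∀ x ∈ C₂, β x ∈ C₂) ∧ (∀ β : MulAut G, ∀ x ∈ C₃, β x ∈ C₃) := by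
  let ρ : G →* G := MonoidHom.mk' (fun x => x ^ (p ^ 2))
    (fun x y => mul_pow_prime_sq_of_comm hcomm hcp x y)
  have hρ : ∀ x, ρ x = x ^ (p ^ 2) := fun x => rfl
  have hker : ∀ x, x ∈ ρ.ker ↔ x ^ (p ^ 2) = 1 := fun x => by rw [MonoidHom.mem_ker, hρ]
  have hrZ : ρ.range ≤ Subgroup.center G := by
    rintro _ ⟨x, rfl⟩
    rw [hρ, pow_two, pow_mul]
    exact Subgroup.pow_mem _ (hpow x) p
  have hrp : ∀ y ∈ ρ.range, y ^ p = 1 := by
    rintro _ ⟨x, rfl⟩
    rw [hρ, ← pow_mul]
    have h1 : p ^ 2 * p = p * p ^ 2 := by ring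
    rw [h1, pow_mul]
    exact pow_eq_one_of_mem_of_card _ hZ _ (hpow x)
  -- the range has at most p elements
  have hrle : Nat.card ρ.range ≤ p := by
    have hkc := IsCyclic.card_powMonoidHom_ker (G := ↥(Subgroup.center G)) p
    rw [hZ] at hkc
    have hg : (p ^ 2).gcd p = p := Nat.gcd_eq_right (dvd_pow_self p (by norm_num))
    rw [hg] at hkc
    have hmem : ∀ y : ρ.range, (⟨(y : G), hrZ y.2⟩ : Subgroup.center G)
        ∈ (powMonoidHom p : ↥(Subgroup.center G) →* ↥(Subgroup.center G)).ker := by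
      intro y
      rw [MonoidHom.mem_ker, powMonoidHom_apply]
      exact Subtype.ext (hrp y y.2)
    have hinj : Function.Injective (fun y : ρ.range =>
        (⟨⟨(y : G), hrZ y.2⟩, hmem y⟩ :
          (powMonoidHom p : ↥(Subgroup.center G) →* ↥(Subgroup.center G)).ker)) := by
      intro y y' h
      have h1 : (y : G) = (y' : G) := congrArg
        (fun w : (powMonoidHom p : ↥(Subgroup.center G) →* ↥(Subgroup.center G)).ker =>
          ((w : ↥(Subgroup.center G)) : G)) h
      exact Subtype.ext h1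
    exact hkc ▸ Nat.card_le_card_of_injective _ hinj
  have hmul := card_ker_mul_card_range ρ
  rw [hcard] at hmul
  have hr : Nat.card ρ.range = p := by
    obtain ⟨j, hj4, hj⟩ := (Nat.dvd_prime_pow hp.out).mp (Dvd.intro_left _ hmul)
    have hj1 : j ≠ 0 := by
      rintro rfl
      have h3 : ρ.range = ⊥ := Subgroup.card_eq_one.mp (by simpa using hj)
      have h2 : a ^ (p ^ 2) ∈ ρ.range := ⟨a, rfl⟩
      rw [h3, Subgroup.mem_bot] at h2
      exact ha h2
    have hj2 : j ≤ 1 := by
      rw [hj] at hrle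
      by_contra hcon
      have h5 : p ^ 1 < p ^ j := Nat.pow_lt_pow_right hp.out.one_lt (by omega)
      rw [pow_one] at h5
      exact absurd hrle (not_le.mpr h5)
    have hj3 : j = 1 := by omega
    rw [hj, hj3, pow_one]
  have hk : Nat.card ρ.ker = p ^ 3 := by
    rw [hr] at hmul
    have : Nat.card ρ.ker * p = p ^ 3 * p := by rw [hmul]; ring
    exact Nat.eq_of_mul_eq_mul_right hp.out.pos this
  refine ⟨ρ.range, Subgroup.center G, ρ.ker, hrZ, ?_, hr, hZ, hk, ?_, fun β => center_char β, ?_⟩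
  · intro z hz
    rw [hker]
    exact pow_eq_one_of_mem_of_card _ hZ z hz
  · rintro β _ ⟨x, rfl⟩
    exact ⟨β x, by rw [hρ, hρ, map_pow]⟩
  · intro β x hx
    rw [hker] at hx ⊢
    rw [← map_pow, hx, map_one]

end CenterSq

end Cfsg.Agent.Lib.Helper91.OrderP4
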