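import Mathlib
import Cfsg.Agent.Lib.Helper91.OrderP4B

/-!
# Groups of order `p⁴` with elementary abelian centre of order `p²`
-/

set_option autoImplicit false
open Cfsg
open scoped commutatorElement

namespace Cfsg.Agent.Lib.Helper91.OrderP4

open Cfsg.Agent.Lib.Helper91.OrderP3

/-- A fresh carrier type with `n` elements and no algebraic structure of its own. -/
structure Carrier (n : ℕ) : Type where
  /-- the underlying index -/
  val : Fin n

/-- The carrier is in bijection with `Fin n`. -/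
def Carrier.equivFin (n : ℕ) : Carrier n ≃ Fin n :=
  ⟨Carrier.val, Carrier.mk, fun _ => rfl, fun _ => rfl⟩

instance Carrier.finite (n : ℕ) : Finite (Carrier n) :=
  Finite.of_equiv _ (Carrier.equivFin n).symm

theorem Carrier.card (n : ℕ) : Nat.card (Carrier n) = n := by
  rw [Nat.card_congr (Carrier.equivFin n), Nat.card_eq_fintype_card, Fintype.card_fin]

section ZElem

variable {G : Type*} [Group G]

theorem normal_of_le_center (D : Subgroup G) (h : D ≤ Subgroup.center G) : D.Normal := by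
  constructor
  intro n hn g
  have h1 := Subgroup.mem_center_iff.mp (h hn) g
  rw [h1, mul_inv_cancel_right]; exact hn

theorem noncyclic_center_exp [Finite G] (p : ℕ) [hp : Fact p.Prime]
    (hZ : Nat.card (Subgroup.center G) = p ^ 2) (hnc : ¬ IsCyclic ↥(Subgroup.center G)) :
    ∀ z ∈ Subgroup.center G, z ^ p = 1 := by
  intro z hz
  have hdvd : orderOf (⟨z, hz⟩ : Subgroup.center G) ∣ p ^ 2 := hZ ▸ orderOf_dvd_natCard _
  obtain ⟨k, hk2, hk⟩ := (Nat.dvd_prime_pow hp.out).mp hdvd
  have h1 : (⟨z, hz⟩ : Subgroup.center G) ^ p = 1 := by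
    interval_cases k
    · rw [pow_zero, orderOf_eq_one_iff] at hk; rw [hk, one_pow]
    · rw [pow_one] at hk; rw [← hk]; exact pow_orderOf_eq_one _
    · exfalso; exact hnc (isCyclic_of_orderOf_eq_card _ (by rw [hk, hZ]))
  have h2 := congrArg Subtype.val h1
  simpa using h2

theorem sq_comm_of_exp_two (h : ∀ x : G, x ^ 2 = 1) : ∀ x y : G, x * y = y * x := by
  intro x y
  have h1 := h (x * y)
  have hx := h x
  have hy := h y
  have hx' : x⁻¹ = x := by rw [inv_eq_iff_mul_eq_one, ← sq]; exact hx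
  have hy' : y⁻¹ = y := by rw [inv_eq_iff_mul_eq_one, ← sq]; exact hy
  have h2 : (x * y)⁻¹ = x * y := by rw [inv_eq_iff_mul_eq_one, ← sq]; exact h1
  rw [mul_inv_rev, hx', hy'] at h2
  exact h2.symm

theorem mem_zpowers_of_sq (c : G) (hc2 : c ^ 2 = 1) (x : G) (hx : x ∈ Subgroup.zpowers c) :
    x = 1 ∨ x = c := by
  obtain ⟨k, rfl⟩ := Subgroup.mem_zpowers_iff.mp hx
  have h4 : c ^ (2 : ℤ) = 1 := by
    rw [show (2 : ℤ) = ((2 : ℕ) : ℤ) from rfl, zpow_natCast]; exact hc2
  rcases Int.emod_two_eq_zero_or_one k with h | h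
  · left
    obtain ⟨m, hm⟩ := Int.dvd_of_emod_eq_zero h
    rw [hm, zpow_mul, h4, one_zpow]
  · right
    have hk : k = 2 * (k / 2) + 1 := by omega
    rw [hk, zpow_add, zpow_mul, zpow_one, h4, one_zpow, one_mul]

/-- A nonabelian group of order `8` whose involutions are central is quaternion. -/
theorem q8_of_sq [Finite G] (hcard : Nat.card G = 2 ^ 3) (hna : ¬ ∀ a b : G, a * b = b * a)
    (hsq : ∀ x : G, x ^ 2 = 1 → x ∈ Subgroup.center G) : Nonempty (G ≃* QuaternionGroup 2) := by
  haveI : Fact (Nat.Prime 2) := ⟨Nat.prime_two⟩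
  obtain ⟨hZ, hpow, hcomm⟩ := center_facts 2 hcard hna
  have hexp : ∀ z ∈ Subgroup.center G, z ^ 2 = 1 :=
    fun z hz => pow_eq_one_of_mem_of_card _ hZ z hz
  obtain ⟨a, ha⟩ : ∃ a : G, a ^ 2 ≠ 1 := by
    by_contra hcon
    push Not at hcon
    exact hna (sq_comm_of_exp_two hcon)
  have ha4 : a ^ 4 = 1 := by
    have := hexp _ (hpow a)
    rw [← pow_mul] at this; exact this
  have hoa : orderOf a = 4 := by
    have := orderOf_eq_prime_pow (p := 2) (n := 1) (x := a) (by simpa using ha) (by simpa using ha4)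
    simpa using this
  have hZa : Subgroup.zpowers (a ^ 2) = Subgroup.center G :=
    eq_zpowers_of_prime_card _ hZ (a ^ 2) (hpow a) ha
  have hZ2 : ∀ z ∈ Subgroup.center G, z = 1 ∨ z = a ^ 2 := by
    intro z hz
    rw [← hZa] at hz
    exact mem_zpowers_of_sq (a ^ 2) (by rw [← pow_mul]; exact ha4) z hz
  have hA : Nat.card (Subgroup.zpowers a) = 2 ^ 2 := by rw [Nat.card_zpowers, hoa]; norm_num
  have hidx : (Subgroup.zpowers a).index = 2 := by
    have := (Subgroup.zpowers a).card_mul_index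
    rw [hcard, hA] at this
    omega
  obtain ⟨b, hbA⟩ : ∃ b : G, b ∉ Subgroup.zpowers a := by
    apply exists_not_mem_of_card_lt
    rw [hA, hcard]; norm_num
  have hb2 : b ^ 2 ≠ 1 := by
    intro h
    have h1 := hsq b h
    rw [← hZa] at h1
    exact hbA (Subgroup.zpowers_le.mpr (Subgroup.pow_mem _ (Subgroup.mem_zpowers a) 2) h1)
  have hb2' : b ^ 2 = a ^ 2 := by
    rcases hZ2 _ (hpow b) with h | h
    · exact absurd h hb2
    · exact h
  have hconj : b * a * b⁻¹ = a⁻¹ := by
    rcases hZ2 _ (hcomm b a) with h | h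
    · exfalso
      have hab : b * a = a * b := commutatorElement_eq_one_iff_mul_comm.mp h
      have hac : a ∈ Subgroup.center G := by
        rw [Subgroup.mem_center_iff]
        intro g
        by_cases hg : g ∈ Subgroup.zpowers a
        · obtain ⟨k, rfl⟩ := Subgroup.mem_zpowers_iff.mp hg
          exact ((Commute.refl a).zpow_left k).eq
        · have h1 : b⁻¹ * g ∈ Subgroup.zpowers a := by
            rw [Subgroup.mul_mem_iff_of_index_two hidx]
            constructor
            · intro h2; exact absurd ((Subgroup.inv_mem_iff _).mp h2) hbA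
            · intro h2; exact absurd h2 hg
          obtain ⟨k, hk⟩ := Subgroup.mem_zpowers_iff.mp h1
          have hg' : g = b * a ^ k := by rw [hk]; group
          rw [hg']
          have h3 : Commute (b * a ^ k) a :=
            (show Commute b a from hab).mul_left ((Commute.refl a).zpow_left k)
          exact h3.eq
      rcases hZ2 a hac with h1 | h1
      · rw [h1] at ha; simp at ha
      · have : a = 1 := by
          have h2 : a * 1 = a * a := by rw [mul_one, ← sq]; exact h1
          exact (mul_left_cancel h2).symm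
        rw [this] at ha; simp at ha
    · have h1 : b * a * b⁻¹ = ⁅b, a⁆ * a := by rw [commutatorElement_def]; group
      rw [h1, h, eq_inv_iff_mul_eq_one]
      calc a ^ 2 * a * a = a ^ 4 := by group
        _ = 1 := ha4
  exact Cfsg.Agent.Lib.Helper12.nonempty_mulEquiv_quaternion (m := 2) le_rfl a b
    (by rw [hcard]; norm_num) (by rw [hoa]) hb2' hconj

/-- Exponent `p`, `p` odd: the group is `E × C_p` with `E` extraspecial of order `p³`. -/
theorem split_extraspecial [Finite G] (p : ℕ) [hp : Fact p.Prime]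
    (hcard : Nat.card G = p ^ 4) (hna : ¬ ∀ a b : G, a * b = b * a)
    (hZ : Nat.card (Subgroup.center G) = p ^ 2) (hZe : ∀ z ∈ Subgroup.center G, z ^ p = 1)
    (hexp : ∀ x : G, x ^ p = 1)
    (hcomm : ∀ x y : G, ⁅x, y⁆ ∈ Subgroup.center G) (hcp : ∀ x y : G, ⁅x, y⁆ ^ p = 1) :
    ∃ (E : Type) (_ : Group E) (_ : Finite E), Cfsg.IsExtraspecial p E ∧ Nat.card E = p ^ 3 ∧
      (∀ x : E, x ^ p = 1) ∧ Nonempty (G ≃* E × Multiplicative (ZMod p)) := by
  obtain ⟨c, hc1, hcpw, hcZ, hgen, hβ⟩ := exists_comm_gen p hcard hZ hcomm hcp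
  have hDcard := card_zpowers_of_pow_prime c hc1 hcpw
  have hDZ : Subgroup.zpowers c ≤ Subgroup.center G := Subgroup.zpowers_le.mpr hcZ
  haveI := normal_of_le_center _ hDZ
  have hfr : frattini G ≤ Subgroup.zpowers c :=
    Cfsg.Agent.Lib.Helper72.frattini_le_of_forall_pow_mem hp.out (Subgroup.zpowers c)
      (fun x => by rw [hexp x]; exact Subgroup.one_mem _) (fun x y => hgen x y)
  obtain ⟨z, hzZ, hzD⟩ : ∃ z ∈ Subgroup.center G, z ∉ Subgroup.zpowers c := by
    by_contra hcon
    push Not at hcon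
    have h1 := Subgroup.card_le_of_le (show Subgroup.center G ≤ Subgroup.zpowers c from hcon)
    rw [hZ, hDcard] at h1
    have h3 : p ^ 1 < p ^ 2 := Nat.pow_lt_pow_right hp.out.one_lt (by norm_num)
    rw [pow_one] at h3
    exact absurd h1 (not_le.mpr h3)
  obtain ⟨M, hzM, ⟨e⟩, hMcard⟩ :=
    split_of_not_mem_frattini z hzZ (hZe z hzZ) (fun h => hzD (hfr h))
  have hM : Nat.card M = p ^ 3 := by
    rw [hcard] at hMcard
    have : Nat.card M * p = p ^ 3 * p := by rw [hMcard]; ring
    exact Nat.eq_of_mul_eq_mul_right hp.out.pos this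
  have hMna : ¬ ∀ a b : ↥M, a * b = b * a := by
    intro h
    apply hna
    intro g g'
    obtain ⟨⟨m₁, k₁⟩, rfl⟩ := e.surjective g
    obtain ⟨⟨m₂, k₂⟩, rfl⟩ := e.surjective g'
    rw [← map_mul, ← map_mul]
    congr 1
    exact Prod.ext (h m₁ m₂) (mul_comm k₁ k₂)
  have hMexp : ∀ x : ↥M, x ^ p = 1 := by
    intro x
    apply Subtype.ext
    have := hexp (x : G)
    simpa using this
  have hpos : Nat.card ↥M ≠ 0 := by rw [hM]; exact pow_ne_zero _ hp.out.ne_zero
  let e₀ : Carrier (Nat.card ↥M) ≃ ↥M :=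
    (Carrier.equivFin _).trans (Nat.equivFinOfCardPos hpos).symm
  letI : Group (Carrier (Nat.card ↥M)) := e₀.group
  let ψ : Carrier (Nat.card ↥M) ≃* ↥M := e₀.mulEquiv
  have hEcard : Nat.card (Carrier (Nat.card ↥M)) = p ^ 3 := by rw [Carrier.card, hM]
  refine ⟨Carrier (Nat.card ↥M), inferInstance, inferInstance, ?_, hEcard, ?_, ?_⟩
  · apply isExtraspecial_of_card p hEcard
    intro h
    apply hMna
    intro a b
    have h1 := h (ψ.symm a) (ψ.symm b)
    have h2 := congrArg ψ h1
    simpa using h2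
  · intro x
    apply ψ.injective
    rw [map_pow, hMexp, map_one]
  · exact ⟨e.symm.trans (MulEquiv.prodCongr ψ.symm (MulEquiv.refl _))⟩

/-- `p` odd, elementary abelian centre of order `p²`, exponent `p²`: a characteristic chain. -/
theorem chain_odd_exp_sq [Finite G] (p : ℕ) [hp : Fact p.Prime] (hp2 : p ≠ 2)
    (hcard : Nat.card G = p ^ 4)
    (hZ : Nat.card (Subgroup.center G) = p ^ 2) (hZe : ∀ z ∈ Subgroup.center G, z ^ p = 1)
    (hpow : ∀ x : G, x ^ p ∈ Subgroup.center G)
    (hcomm : ∀ x y : G, ⁅x, y⁆ ∈ Subgroup.center G) (hcp : ∀ x y : G, ⁅x, y⁆ ^ p = 1)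
    (a : G) (ha : a ^ p ≠ 1) :
    ∃ C₁ C₂ C₃ : Subgroup G, C₁ ≤ C₂ ∧ C₂ ≤ C₃ ∧ Nat.card C₁ = p ∧ Nat.card C₂ = p ^ 2 ∧
      Nat.card C₃ = p ^ 3 ∧ (∀ β : MulAut G, ∀ x ∈ C₁, β x ∈ C₁) ∧
      (∀ β : MulAut G, ∀ x ∈ C₂, β x ∈ C₂) ∧ (∀ β : MulAut G, ∀ x ∈ C₃, β x ∈ C₃) := by
  let π : G →* G := MonoidHom.mk' (fun x => x ^ p)
    (fun x y => mul_pow_prime_of_comm hp2 hcomm hcp x y)
  have hπ : ∀ x, π x = x ^ p := fun x => rfl
  have hker : ∀ x, x ∈ π.ker ↔ x ^ p = 1 := fun x => by rw [MonoidHom.mem_ker, hπ]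
  have hZk : Subgroup.center G ≤ π.ker := fun z hz => (hker z).mpr (hZe z hz)
  have hrZ : π.range ≤ Subgroup.center G := by
    rintro _ ⟨x, rfl⟩; exact hpow x
  have hmul := card_ker_mul_card_range π
  rw [hcard] at hmul
  have hkchar : ∀ β : MulAut G, ∀ x ∈ π.ker, β x ∈ π.ker := by
    intro β x hx; rw [hker] at hx ⊢; rw [← map_pow, hx, map_one]
  have hrchar : ∀ β : MulAut G, ∀ x ∈ π.range, β x ∈ π.range := by
    rintro β _ ⟨x, rfl⟩
    exact ⟨β x, by rw [hπ, hπ, map_pow]⟩
  obtain ⟨j, hj4, hj⟩ := (Nat.dvd_prime_pow hp.out).mp (Dvd.intro _ hmul)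
  have hj2 : 2 ≤ j := by
    have h1 := Subgroup.card_le_of_le hZk
    rw [hZ, hj] at h1
    exact (Nat.pow_le_pow_iff_right hp.out.one_lt).mp h1
  have hj3 : j ≠ 4 := by
    intro h4
    have hk : π.ker = ⊤ := Subgroup.eq_top_of_card_eq _ (by rw [hj, h4, hcard])
    exact ha ((hker a).mp (hk ▸ Subgroup.mem_top a))
  have hj' : j = 2 ∨ j = 3 := by omega
  rcases hj' with rfl | rfl
  · -- kernel = centre = range
    have hr : Nat.card π.range = p ^ 2 := by
      rw [hj] at hmul
      have : p ^ 2 * Nat.card π.range = p ^ 2 * p ^ 2 := by rw [hmul]; ring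
      exact Nat.eq_of_mul_eq_mul_left (pow_pos hp.out.pos 2) this
    have hrZ' : π.range = Subgroup.center G :=
      Subgroup.eq_of_le_of_card_ge hrZ (by rw [hr, hZ])
    obtain ⟨c, hc1, hcpw, hcZ, hgen, hβ⟩ := exists_comm_gen p hcard hZ hcomm hcp
    have hDcard := card_zpowers_of_pow_prime c hc1 hcpw
    have hDZ : Subgroup.zpowers c ≤ Subgroup.center G := Subgroup.zpowers_le.mpr hcZ
    have hDchar := zpowers_char_of_map_mem c hβ
    have hidxZ : (Subgroup.center G).index = p ^ 2 := by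
      have h1 := (Subgroup.center G).card_mul_index
      rw [hZ, hcard] at h1
      have : p ^ 2 * (Subgroup.center G).index = p ^ 2 * p ^ 2 := by rw [h1]; ring
      exact Nat.eq_of_mul_eq_mul_left (pow_pos hp.out.pos 2) this
    have hidxD : (Subgroup.zpowers c).index = p ^ 3 := by
      have h1 := (Subgroup.zpowers c).card_mul_index
      rw [hDcard, hcard] at h1
      have : p * (Subgroup.zpowers c).index = p * p ^ 3 := by rw [h1]; ring
      exact Nat.eq_of_mul_eq_mul_left hp.out.pos this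
    have hrel : (Subgroup.zpowers c).relIndex (Subgroup.center G) = p := by
      have h1 := Subgroup.relIndex_mul_index hDZ
      rw [hidxZ, hidxD] at h1
      have : (Subgroup.zpowers c).relIndex (Subgroup.center G) * p ^ 2 = p * p ^ 2 := by
        rw [h1]; ring
      exact Nat.eq_of_mul_eq_mul_right (pow_pos hp.out.pos 2) this
    have hC₃ : Nat.card ((Subgroup.zpowers c).comap π) = p ^ 3 := by
      have h1 : ((Subgroup.zpowers c).comap π).index = p := by
        rw [Subgroup.index_comap, hrZ', hrel]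
      have h2 := ((Subgroup.zpowers c).comap π).card_mul_index
      rw [h1, hcard] at h2
      have : Nat.card ((Subgroup.zpowers c).comap π) * p = p ^ 3 * p := by rw [h2]; ring
      exact Nat.eq_of_mul_eq_mul_right hp.out.pos this
    refine ⟨Subgroup.zpowers c, Subgroup.center G, (Subgroup.zpowers c).comap π, hDZ, ?_, hDcard,
      hZ, hC₃, hDchar, fun β => center_char β, ?_⟩
    · intro z hz
      rw [Subgroup.mem_comap, hπ, hZe z hz]
      exact Subgroup.one_mem _
    · intro β x hx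
      rw [Subgroup.mem_comap, hπ] at hx ⊢
      rw [← map_pow]
      exact hDchar β _ hx
  · have hr : Nat.card π.range = p := by
      rw [hj] at hmul
      have : p ^ 3 * Nat.card π.range = p ^ 3 * p := by rw [hmul]; ring
      exact Nat.eq_of_mul_eq_mul_left (pow_pos hp.out.pos 3) this
    exact ⟨π.range, Subgroup.center G, π.ker, hrZ, hZk, hr, hZ, hj, hrchar,
      fun β => center_char β, hkchar⟩

end ZElem

end Cfsg.Agent.Lib.Helper91.OrderP4
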