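import Mathlib
import Cfsg.Agent.Lib.Helper91.OrderP4C

/-!
# Groups of order `16` with elementary abelian centre of order `4`
-/

set_option autoImplicit false
open Cfsg
open scoped commutatorElement

namespace Cfsg.Agent.Lib.Helper91.OrderP4

open Cfsg.Agent.Lib.Helper91.OrderP3

section Two

variable {G : Type*} [Group G]

/-- Order `16`, centre elementary abelian of order `4`: `Q₈ × C₂` or a characteristic chain. -/
theorem two_cases [Finite G] (hcard : Nat.card G = 2 ^ 4) (hna : ¬ ∀ a b : G, a * b = b * a)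
    (hZ : Nat.card (Subgroup.center G) = 2 ^ 2) (hZe : ∀ z ∈ Subgroup.center G, z ^ 2 = 1)
    (hcomm : ∀ x y : G, ⁅x, y⁆ ∈ Subgroup.center G) (hcp : ∀ x y : G, ⁅x, y⁆ ^ 2 = 1) :
    Nonempty (G ≃* QuaternionGroup 2 × Multiplicative (ZMod 2)) ∨
    ∃ C₁ C₂ C₃ : Subgroup G, C₁ ≤ C₂ ∧ C₂ ≤ C₃ ∧ Nat.card C₁ = 2 ∧ Nat.card C₂ = 2 ^ 2 ∧
      Nat.card C₃ = 2 ^ 3 ∧ (∀ β : MulAut G, ∀ x ∈ C₁, β x ∈ C₁) ∧
      (∀ β : MulAut G, ∀ x ∈ C₂, β x ∈ C₂) ∧ (∀ β : MulAut G, ∀ x ∈ C₃, β x ∈ C₃) := by
  haveI : Fact (Nat.Prime 2) := ⟨Nat.prime_two⟩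
  obtain ⟨c, hc1, hc2, hcZ, hgen, hβ⟩ := exists_comm_gen 2 hcard hZ hcomm hcp
  have hDcard := card_zpowers_of_pow_prime (p := 2) c hc1 hc2
  have hDZ : Subgroup.zpowers c ≤ Subgroup.center G := Subgroup.zpowers_le.mpr hcZ
  have hDchar := zpowers_char_of_map_mem c hβ
  have hD2 : ∀ x ∈ Subgroup.zpowers c, x = 1 ∨ x = c := mem_zpowers_of_sq c hc2
  have hcc : c * c = 1 := by rw [← sq]; exact hc2
  have hβc : ∀ β : MulAut G, β c = c := by
    intro β
    rcases hD2 _ (hβ β) with h | h
    · exfalso
      have h2 : β c = β 1 := by rw [h, map_one]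
      exact hc1 (β.injective h2)
    · exact h
  have hsq : ∀ x y : G, (x * y) ^ 2 = x ^ 2 * y ^ 2 * ⁅y, x⁆ := by
    intro x y
    have hc := hcomm y x
    have h1 := mul_pow_class2 x y ⁅y, x⁆ (comm_swap x y)
      (Subgroup.mem_center_iff.mp hc x).symm (Subgroup.mem_center_iff.mp hc y).symm 2
    rw [h1, Nat.choose_self, pow_one]
  let K : Subgroup G :=
    { carrier := {x | x ^ 2 ∈ Subgroup.zpowers c}
      mul_mem' := by
        intro x y hx hy
        show (x * y) ^ 2 ∈ Subgroup.zpowers c
        rw [hsq]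
        exact Subgroup.mul_mem _ (Subgroup.mul_mem _ hx hy) (hgen y x)
      one_mem' := by
        show (1 : G) ^ 2 ∈ Subgroup.zpowers c
        rw [one_pow]; exact Subgroup.one_mem _
      inv_mem' := by
        intro x hx
        show (x⁻¹) ^ 2 ∈ Subgroup.zpowers c
        rw [inv_pow]; exact Subgroup.inv_mem _ hx }
  have hKmem : ∀ x : G, x ∈ K ↔ x ^ 2 ∈ Subgroup.zpowers c := fun _ => Iff.rfl
  have hZK : Subgroup.center G ≤ K := by
    intro z hz
    rw [hKmem, hZe z hz]; exact Subgroup.one_mem _
  have hKchar : ∀ β : MulAut G, ∀ x ∈ K, β x ∈ K := by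
    intro β x hx
    rw [hKmem] at hx ⊢
    rw [← map_pow]
    exact hDchar β _ hx
  have h23 : (2 : ℕ) ^ 2 < 2 ^ 4 := by norm_num
  have h34 : (2 : ℕ) ^ 3 < 2 ^ 4 := by norm_num
  have hidxD : ((Subgroup.zpowers c).subgroupOf (Subgroup.center G)).index = 2 := by
    have h1 := ((Subgroup.zpowers c).subgroupOf (Subgroup.center G)).card_mul_index
    rw [Nat.card_congr (Subgroup.subgroupOfEquivOfLe hDZ).toEquiv, hDcard, hZ] at h1
    omega
  -- product of two central elements outside D lies in D
  have hZD : ∀ u ∈ Subgroup.center G, ∀ v ∈ Subgroup.center G, u ∉ Subgroup.zpowers c →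
      v ∉ Subgroup.zpowers c → u * v ∈ Subgroup.zpowers c := by
    intro u hu v hv hu' hv'
    have h1 := (Subgroup.mul_mem_iff_of_index_two hidxD (a := ⟨u, hu⟩) (b := ⟨v, hv⟩)).mpr
      ⟨fun h => absurd (Subgroup.mem_subgroupOf.mp h) hu',
        fun h => absurd (Subgroup.mem_subgroupOf.mp h) hv'⟩
    exact Subgroup.mem_subgroupOf.mp h1
  by_cases hKtop : K = ⊤
  · -- all squares lie in D
    have hsqD : ∀ x : G, x ^ 2 = 1 ∨ x ^ 2 = c := by
      intro x
      apply hD2
      have : x ∈ K := hKtop ▸ Subgroup.mem_top x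
      exact this
    by_cases hQ : ∀ x : G, x ^ 2 = 1 → x ∈ Subgroup.center G
    · left
      haveI := normal_of_le_center _ hDZ
      have hfr : frattini G ≤ Subgroup.zpowers c :=
        Cfsg.Agent.Lib.Helper72.frattini_le_of_forall_pow_mem Nat.prime_two (Subgroup.zpowers c)
          (fun x => by
            have : x ∈ K := hKtop ▸ Subgroup.mem_top x
            exact this) (fun x y => hgen x y)
      obtain ⟨z, hzZ, hzD⟩ : ∃ z ∈ Subgroup.center G, z ∉ Subgroup.zpowers c := by
        by_contra hcon
        push Not at hcon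
        have h1 := Subgroup.card_le_of_le (show Subgroup.center G ≤ Subgroup.zpowers c from hcon)
        rw [hZ, hDcard] at h1
        omega
      obtain ⟨M, hzM, ⟨e⟩, hMcard⟩ :=
        split_of_not_mem_frattini (p := 2) z hzZ (hZe z hzZ) (fun h => hzD (hfr h))
      have hM : Nat.card M = 2 ^ 3 := by
        rw [hcard] at hMcard
        omega
      have hMna : ¬ ∀ a b : ↥M, a * b = b * a := by
        intro h
        apply hna
        intro g g'
        obtain ⟨⟨m₁, k₁⟩, rfl⟩ := e.surjective g
        obtain ⟨⟨m₂, k₂⟩, rfl⟩ := e.surjective g'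
        rw [← map_mul, ← map_mul]
        congr 1
        exact Prod.ext (h m₁ m₂) (mul_comm k₁ k₂)
      have hMsq : ∀ x : ↥M, x ^ 2 = 1 → x ∈ Subgroup.center ↥M := by
        intro x hx
        have hx' : (x : G) ^ 2 = 1 := by
          have := congrArg Subtype.val hx
          simpa using this
        have hxZ := hQ _ hx'
        rw [Subgroup.mem_center_iff]
        intro g
        exact Subtype.ext (Subgroup.mem_center_iff.mp hxZ (g : G))
      obtain ⟨eQ⟩ := q8_of_sq hM hMna hMsq
      exact ⟨e.symm.trans (MulEquiv.prodCongr eQ (MulEquiv.refl _))⟩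
    · right
      push Not at hQ
      obtain ⟨s, hs2, hsZ⟩ := hQ
      obtain ⟨r, hr⟩ : ∃ r : G, r ^ 2 ≠ 1 := by
        by_contra hcon
        push Not at hcon
        exact hna (sq_comm_of_exp_two hcon)
      have hr2 : r ^ 2 = c := by
        rcases hsqD r with h | h
        · exact absurd h hr
        · exact h
      have hrZ : r ∉ Subgroup.center G := fun h => hr (hZe r h)
      obtain ⟨hA, hAc⟩ := cent_facts 2 hcard hZ r (fun g => hcomm g r) hrZ
      set A := (commHom r (fun g => hcomm g r)).ker with hAdef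
      have hZA : Subgroup.center G ≤ A := by
        intro z hz
        rw [hAdef, mem_ker_commHom]
        exact (Subgroup.mem_center_iff.mp hz r).symm
      have hrA : r ∈ A := by rw [hAdef, mem_ker_commHom]
      have hidxA : A.index = 2 := by
        have h1 := A.card_mul_index
        rw [hA, hcard] at h1
        omega
      -- noncentral elements of A are not involutions
      have key1 : ∀ a ∈ A, a ∉ Subgroup.center G → a ^ 2 ≠ 1 := by
        intro a haA haZ ha2
        let Ksq : Subgroup G :=
          { carrier := {x | x ∈ A ∧ x ^ 2 = 1}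
            mul_mem' := by
              rintro x y ⟨hx, hx2⟩ ⟨hy, hy2⟩
              refine ⟨A.mul_mem hx hy, ?_⟩
              have hxy : Commute x y := congrArg Subtype.val (hAc ⟨x, hx⟩ ⟨y, hy⟩)
              rw [hxy.mul_pow, hx2, hy2, one_mul]
            one_mem' := ⟨A.one_mem, one_pow 2⟩
            inv_mem' := by
              rintro x ⟨hx, hx2⟩
              exact ⟨A.inv_mem hx, by rw [inv_pow, hx2, inv_one]⟩ }
        have hle : Ksq ≤ A := fun x hx => hx.1
        have hZK' : Subgroup.center G ≤ Ksq := fun z hz => ⟨hZA hz, hZe z hz⟩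
        have h8 : Nat.card Ksq = 2 ^ (2 + 1) :=
          card_eq_of_lt (p := 2) hZK' hZ a ⟨haA, ha2⟩ haZ
            (by rw [← hA]; exact Subgroup.card_dvd_of_le hle)
        have hKA : Ksq = A := Subgroup.eq_of_le_of_card_ge hle (by rw [h8, hA])
        have hrK : r ∈ Ksq := hKA ▸ hrA
        exact hr hrK.2
      -- noncentral elements of A do not commute with elements outside A
      have key2 : ∀ a ∈ A, a ∉ Subgroup.center G → ∀ y : G, y ∉ A → ⁅a, y⁆ ≠ 1 := by
        intro a haA haZ y hyA h
        obtain ⟨hC, -⟩ := cent_facts 2 hcard hZ a (fun g => hcomm g a) haZ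
        have hle : A ≤ (commHom a (fun g => hcomm g a)).ker := by
          intro w hw
          rw [mem_ker_commHom]
          exact congrArg Subtype.val (hAc ⟨w, hw⟩ ⟨a, haA⟩)
        have heq := Subgroup.eq_of_le_of_card_ge hle (by rw [hC, hA])
        apply hyA
        rw [heq, mem_ker_commHom]
        exact (commutatorElement_eq_one_iff_mul_comm.mp h).symm
      have claim : ∀ y : G, y ^ 2 = c → y ∈ A := by
        intro y hy
        by_contra hyA
        have hsA : s ∉ A := fun h => key1 s h hsZ hs2
        have haA : y⁻¹ * s ∈ A := by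
          rw [Subgroup.mul_mem_iff_of_index_two hidxA]
          constructor
          · intro h; exact absurd ((Subgroup.inv_mem_iff _).mp h) hyA
          · intro h; exact absurd h hsA
        have hs : s = y * (y⁻¹ * s) := by group
        have h1 := hsq y (y⁻¹ * s)
        rw [← hs, hs2, hy] at h1
        by_cases haZ : y⁻¹ * s ∈ Subgroup.center G
        · have h2 : ⁅y⁻¹ * s, y⁆ = 1 :=
            commutatorElement_eq_one_iff_mul_comm.mpr (Subgroup.mem_center_iff.mp haZ y).symm
          rw [hZe _ haZ, h2, mul_one, mul_one] at h1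
          exact hc1 h1.symm
        · have h2 : (y⁻¹ * s) ^ 2 = c := by
            rcases hsqD (y⁻¹ * s) with h | h
            · exact absurd h (key1 _ haA haZ)
            · exact h
          have h3 : ⁅y⁻¹ * s, y⁆ = c := by
            rcases hD2 _ (hgen (y⁻¹ * s) y) with h | h
            · exact absurd h (key2 _ haA haZ y hyA)
            · exact h
          rw [h2, h3, hcc, one_mul] at h1
          exact hc1 h1.symm
      have hAchar : ∀ β : MulAut G, ∀ x ∈ A, β x ∈ A := by
        intro β x hx
        have hy : (β r) ^ 2 = c := by rw [← map_pow, hr2, hβc]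
        have hyA := claim _ hy
        have hyZ : β r ∉ Subgroup.center G := by
          intro h
          have h1 := hZe _ h
          rw [hy] at h1
          exact hc1 h1
        obtain ⟨hC, -⟩ := cent_facts 2 hcard hZ (β r) (fun g => hcomm g (β r)) hyZ
        have hle : A ≤ (commHom (β r) (fun g => hcomm g (β r))).ker := by
          intro w hw
          rw [mem_ker_commHom]
          exact congrArg Subtype.val (hAc ⟨w, hw⟩ ⟨β r, hyA⟩)
        have heq := Subgroup.eq_of_le_of_card_ge hle (by rw [hC, hA])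
        rw [heq, mem_ker_commHom]
        have h1 := (mem_ker_commHom r (fun g => hcomm g r) x).mp hx
        rw [← map_mul, ← map_mul, h1]
      exact ⟨Subgroup.zpowers c, Subgroup.center G, A, hDZ, hZA, hDcard, hZ, hA, hDchar,
        fun β => center_char β, hAchar⟩
  · right
    obtain ⟨s, hsK, hsZ⟩ : ∃ s : G, s ∈ K ∧ s ∉ Subgroup.center G := by
      by_contra hcon
      push Not at hcon
      obtain ⟨t, htZ⟩ := exists_not_mem_of_card_lt (Subgroup.center G)
        (by rw [hZ, hcard]; exact h23)
      obtain ⟨hA, hAc⟩ := cent_facts 2 hcard hZ t (fun g => hcomm g t) htZ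
      obtain ⟨b, hbA⟩ := exists_not_mem_of_card_lt (commHom t (fun g => hcomm g t)).ker
        (by rw [hA, hcard]; exact h34)
      have hbZ : b ∉ Subgroup.center G := by
        intro hb
        apply hbA
        rw [mem_ker_commHom]
        exact (Subgroup.mem_center_iff.mp hb t).symm
      have hbt : ⁅b, t⁆ = c := by
        rcases hD2 _ (hgen b t) with h | h
        · exfalso
          apply hbA
          rw [mem_ker_commHom]
          exact commutatorElement_eq_one_iff_mul_comm.mp h
        · exact h
      have ht2 : t ^ 2 ∉ Subgroup.zpowers c := fun h => htZ (hcon t ((hKmem t).mpr h))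
      have hb2 : b ^ 2 ∉ Subgroup.zpowers c := fun h => hbZ (hcon b ((hKmem b).mpr h))
      have hpowZ : ∀ x : G, x ^ 2 ∈ Subgroup.center G := by
        intro x
        -- squares are central: ⁅x², y⁆ = ⁅x, y⁆² = 1
        rw [Subgroup.mem_center_iff]
        intro y
        have hc := Subgroup.mem_center_iff.mp (hcomm x y)
        have h1 := pow_mul_comm_class2 y x ⁅x, y⁆ (comm_swap y x) (hc x).symm 2
        rw [hcp, one_mul] at h1
        exact h1.symm
      have h1 : (t * b) ^ 2 ∈ Subgroup.zpowers c := by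
        rw [hsq, hbt]
        exact Subgroup.mul_mem _ (hZD _ (hpowZ t) _ (hpowZ b) ht2 hb2) (Subgroup.mem_zpowers c)
      have h2 : t * b ∈ Subgroup.center G := hcon _ ((hKmem _).mpr h1)
      apply hbA
      rw [mem_ker_commHom]
      have h3 := Subgroup.mem_center_iff.mp h2 t
      -- t * (t * b) = (t * b) * t  →  t * b = b * t
      have h4 : t * (t * b) = t * (b * t) := by rw [h3]; group
      exact (mul_left_cancel h4).symm
    have hK8 : Nat.card K = 2 ^ 3 := by
      obtain ⟨j, hj4, hj⟩ := (Nat.dvd_prime_pow Nat.prime_two).mp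
        (hcard ▸ Subgroup.card_subgroup_dvd_card K)
      have hlt : Subgroup.center G < K := lt_of_le_of_ne hZK (fun h => hsZ (h ▸ hsK))
      have h1 := card_lt_card_of_lt hlt
      rw [hZ, hj] at h1
      have h2 : 2 < j := (Nat.pow_lt_pow_iff_right (by norm_num)).mp h1
      have h3 : j ≠ 4 := by
        intro h4
        exact hKtop (Subgroup.eq_top_of_card_eq _ (by rw [hj, h4, hcard]))
      have h4 : j = 3 := by omega
      rw [hj, h4]
    exact ⟨Subgroup.zpowers c, Subgroup.center G, K, hDZ, hZK, hDcard, hZ, hK8, hDchar,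
      fun β => center_char β, hKchar⟩

end Two

end Cfsg.Agent.Lib.Helper91.OrderP4
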