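import Mathlib
import Cfsg.Prelude.Def_Transfer
import Cfsg.Agent.Lib.Helper72.Frattini
import Cfsg.Agent.Lib.Helper91.OrderP3
import Cfsg.Agent.Lib.Helper91.OrderP4
import Cfsg.Agent.Lib.Helper91.OrderP4B
import Cfsg.Agent.Lib.Helper91.OrderP4C
import Cfsg.Agent.Lib.Helper91.OrderP4D

/-!
# Groups of order `p⁴`: assembling the cases

A group of order `p⁴` is of one of the special shapes of the classification of essential subgroups
of order `p⁴`, or abelian with Frattini subgroup of index at most `p²`, or it has a characteristic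
chain of subgroups of orders `p`, `p²`, `p³`.
-/

set_option autoImplicit false
open Cfsg
open scoped commutatorElement

namespace Cfsg.Agent.Lib.Helper91.OrderP4

open Cfsg.Agent.Lib.Helper91.OrderP3

section Nonabelian

variable {G : Type*} [Group G]

/-- Nonabelian groups of order `p⁴` with centre of order `p²`. -/
theorem center_sq_cases [Finite G] (p : ℕ) [hp : Fact p.Prime] (hcard : Nat.card G = p ^ 4)
    (hna : ¬ ∀ a b : G, a * b = b * a) (hZ : Nat.card (Subgroup.center G) = p ^ 2) :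
    (Odd p ∧ ∃ (E : Type) (_ : Group E) (_ : Finite E), Cfsg.IsExtraspecial p E ∧
        Nat.card E = p ^ 3 ∧ (∀ x : E, x ^ p = 1) ∧
        Nonempty (G ≃* E × Multiplicative (ZMod p))) ∨
    (p = 2 ∧ Nonempty (G ≃* QuaternionGroup 2 × Multiplicative (ZMod 2))) ∨
    ((∀ x : G, x ^ (p ^ 2) = 1) ∧ IsCyclic ↥(Subgroup.center G)) ∨
    ∃ C₁ C₂ C₃ : Subgroup G, C₁ ≤ C₂ ∧ C₂ ≤ C₃ ∧ Nat.card C₁ = p ∧ Nat.card C₂ = p ^ 2 ∧
      Nat.card C₃ = p ^ 3 ∧ (∀ β : MulAut G, ∀ x ∈ C₁, β x ∈ C₁) ∧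
      (∀ β : MulAut G, ∀ x ∈ C₂, β x ∈ C₂) ∧ (∀ β : MulAut G, ∀ x ∈ C₃, β x ∈ C₃) := by
  obtain ⟨hpow, hcomm, hcp⟩ := facts_center_sq p hcard hna hZ
  by_cases hcyc : IsCyclic ↥(Subgroup.center G)
  · by_cases hex : ∀ x : G, x ^ (p ^ 2) = 1
    · exact Or.inr (Or.inr (Or.inl ⟨hex, hcyc⟩))
    · push Not at hex
      obtain ⟨a, ha⟩ := hex
      exact Or.inr (Or.inr (Or.inr (chain_of_exp_cube p hcard hZ hcyc hpow hcomm hcp a ha)))
  · have hZe := noncyclic_center_exp p hZ hcyc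
    by_cases hp2 : p = 2
    · subst hp2
      rcases two_cases hcard hna hZ hZe hcomm hcp with h | h
      · exact Or.inr (Or.inl ⟨rfl, h⟩)
      · exact Or.inr (Or.inr (Or.inr h))
    · by_cases hex : ∀ x : G, x ^ p = 1
      · exact Or.inl ⟨hp.out.odd_of_ne_two hp2,
          split_extraspecial p hcard hna hZ hZe hex hcomm hcp⟩
      · push Not at hex
        obtain ⟨a, ha⟩ := hex
        exact Or.inr (Or.inr (Or.inr
          (chain_odd_exp_sq p hp2 hcard hZ hZe hpow hcomm hcp a ha)))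

/-- Nonabelian groups of order `p⁴`. -/
theorem nonabelian_cases [Finite G] (p : ℕ) [hp : Fact p.Prime] (hcard : Nat.card G = p ^ 4)
    (hna : ¬ ∀ a b : G, a * b = b * a) :
    (Odd p ∧ ∃ (E : Type) (_ : Group E) (_ : Finite E), Cfsg.IsExtraspecial p E ∧
        Nat.card E = p ^ 3 ∧ (∀ x : E, x ^ p = 1) ∧
        Nonempty (G ≃* E × Multiplicative (ZMod p))) ∨
    (p = 2 ∧ Nonempty (G ≃* QuaternionGroup 2 × Multiplicative (ZMod 2))) ∨
    ((∀ x : G, x ^ (p ^ 2) = 1) ∧ IsCyclic ↥(Subgroup.center G) ∧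
      Nat.card (Subgroup.center G) = p ^ 2) ∨
    ∃ C₁ C₂ C₃ : Subgroup G, C₁ ≤ C₂ ∧ C₂ ≤ C₃ ∧ Nat.card C₁ = p ∧ Nat.card C₂ = p ^ 2 ∧
      Nat.card C₃ = p ^ 3 ∧ (∀ β : MulAut G, ∀ x ∈ C₁, β x ∈ C₁) ∧
      (∀ β : MulAut G, ∀ x ∈ C₂, β x ∈ C₂) ∧ (∀ β : MulAut G, ∀ x ∈ C₃, β x ∈ C₃) := by
  have hG : IsPGroup p G := IsPGroup.of_card hcard
  haveI : Nontrivial G := by
    rw [← Finite.one_lt_card_iff_nontrivial, hcard]
    exact Nat.one_lt_pow (by norm_num) hp.out.one_lt
  obtain ⟨k, hk4, hk⟩ := (Nat.dvd_prime_pow hp.out).mp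
    (hcard ▸ Subgroup.card_subgroup_dvd_card (Subgroup.center G))
  have hidx := (Subgroup.center G).card_mul_index
  rw [hcard, hk] at hidx
  interval_cases k
  · exfalso
    have h1 : Subgroup.center G = ⊥ := Subgroup.card_eq_one.mp (by simpa using hk)
    exact (hG.bot_lt_center).ne' h1
  · exact Or.inr (Or.inr (Or.inr (chain_of_center_prime p hcard (by simpa using hk))))
  · rcases center_sq_cases p hcard hna hk with h | h | ⟨h1, h2⟩ | h
    · exact Or.inl h
    · exact Or.inr (Or.inl h)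
    · exact Or.inr (Or.inr (Or.inl ⟨h1, h2, hk⟩))
    · exact Or.inr (Or.inr (Or.inr h))
  · exfalso
    have h2 : (Subgroup.center G).index = p := by
      have : p ^ 3 * (Subgroup.center G).index = p ^ 3 * p := by rw [hidx]; ring
      exact Nat.eq_of_mul_eq_mul_left (pow_pos hp.out.pos 3) this
    haveI : Fact (Nat.card (G ⧸ Subgroup.center G)).Prime := ⟨by
      rw [← Subgroup.index_eq_card]; rw [h2]; exact hp.out⟩
    haveI : IsCyclic (G ⧸ Subgroup.center G) := isCyclic_of_prime_card rfl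
    exact hna (commutative_of_cyclic_center_quotient (QuotientGroup.mk' (Subgroup.center G))
      (by rw [QuotientGroup.ker_mk']))
  · exfalso
    have h1 : Subgroup.center G = ⊤ :=
      Subgroup.eq_top_of_card_eq _ (by rw [hk, hcard])
    exact hna (fun a b => (Subgroup.mem_center_iff.mp (h1 ▸ Subgroup.mem_top b) a))

end Nonabelian

section Abelian

theorem pow_prime_multiplicative_zmod (p : ℕ) [hp : Fact p.Prime]
    (z : Multiplicative (ZMod p)) : z ^ p = 1 := by
  have h : Nat.card (Multiplicative (ZMod p)) = p := by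
    rw [Nat.card_congr Multiplicative.toAdd, Nat.card_zmod]
  have h2 := pow_card_eq_one' (x := z)
  rwa [h] at h2

theorem zmod_equiv_of_cyclic {C : Type*} [Group C] [IsCyclic C] (n : ℕ) (h : Nat.card C = n) :
    Nonempty (C ≃* Multiplicative (ZMod n)) := by
  subst h
  exact ⟨(zmodCyclicMulEquiv inferInstance).symm⟩

theorem iso_assemble {G M₁ M₂ : Type*} [Group G] [Group M₁] [Group M₂] (p : ℕ)
    (e₁ : M₁ × Multiplicative (ZMod p) ≃* G) (e₂ : M₂ × Multiplicative (ZMod p) ≃* M₁)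
    (e₃ : M₂ ≃* Multiplicative (ZMod (p ^ 2))) :
    Nonempty (G ≃* Multiplicative (ZMod (p ^ 2) × ZMod p × ZMod p)) := by
  have f₁ : G ≃* (M₂ × Multiplicative (ZMod p)) × Multiplicative (ZMod p) :=
    e₁.symm.trans (MulEquiv.prodCongr e₂.symm (MulEquiv.refl _))
  have f₂ : (M₂ × Multiplicative (ZMod p)) × Multiplicative (ZMod p) ≃*
      Multiplicative (ZMod (p ^ 2)) × (Multiplicative (ZMod p) × Multiplicative (ZMod p)) :=
    MulEquiv.prodAssoc.trans (MulEquiv.prodCongr e₃ (MulEquiv.refl _))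
  have f₃ : Multiplicative (ZMod (p ^ 2)) × (Multiplicative (ZMod p) × Multiplicative (ZMod p)) ≃*
      Multiplicative (ZMod (p ^ 2)) × Multiplicative (ZMod p × ZMod p) :=
    MulEquiv.prodCongr (MulEquiv.refl _) (MulEquiv.prodMultiplicative _ _).symm
  exact ⟨f₁.trans (f₂.trans (f₃.trans (MulEquiv.prodMultiplicative _ _).symm))⟩

variable {G : Type*} [CommGroup G]

/-- In a finite abelian group, an element of order dividing `p` that is not a `p`-th power
generates a direct factor. -/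
theorem abelian_split [Finite G] (p : ℕ) [hp : Fact p.Prime] (b : G) (hbp : b ^ p = 1)
    (hb : ∀ y : G, y ^ p ≠ b) :
    ∃ M : Subgroup G, Nonempty (↥M × Multiplicative (ZMod p) ≃* G) ∧
      Nat.card M * p = Nat.card G := by
  have hfr : frattini G ≤ (powMonoidHom p : G →* G).range := by
    apply Cfsg.Agent.Lib.Helper72.frattini_le_of_forall_pow_mem hp.out
    · intro x; exact ⟨x, rfl⟩
    · intro x y
      have h1 : x * y * x⁻¹ * y⁻¹ = 1 := by rw [mul_comm x y]; group
      rw [h1]; exact one_mem _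
  have hbf : b ∉ frattini G := fun h => by
    obtain ⟨y, hy⟩ := hfr h
    exact hb y hy
  obtain ⟨M, -, hiso, hc⟩ := split_of_not_mem_frattini b
    (by rw [Subgroup.mem_center_iff]; intro g; exact mul_comm g b) hbp hbf
  exact ⟨M, hiso, hc⟩

/-- An abelian group of order `p⁴` whose `p`-th powers form a subgroup of order `p` is of type
`(p², p, p)`. -/
theorem abelian_type_211 [Finite G] (p : ℕ) [hp : Fact p.Prime] (hcard : Nat.card G = p ^ 4)
    (hr : Nat.card (powMonoidHom p : G →* G).range = p) :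
    Nonempty (G ≃* Multiplicative (ZMod (p ^ 2) × ZMod p × ZMod p)) := by
  have hkr := card_ker_mul_card_range (powMonoidHom p : G →* G)
  rw [hr, hcard] at hkr
  have hker : Nat.card (powMonoidHom p : G →* G).ker = p ^ 3 := by
    have h1 : Nat.card (powMonoidHom p : G →* G).ker * p = p ^ 3 * p := by rw [hkr]; ring
    exact Nat.eq_of_mul_eq_mul_right hp.out.pos h1
  obtain ⟨b, hbk, hbr⟩ : ∃ b : G, b ∈ (powMonoidHom p : G →* G).ker ∧
      b ∉ (powMonoidHom p : G →* G).range := by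
    by_contra hcon
    push Not at hcon
    have h1 : (powMonoidHom p : G →* G).ker ≤ (powMonoidHom p : G →* G).range :=
      fun x hx => hcon x hx
    have h2 := Subgroup.card_le_of_le h1
    rw [hker, hr] at h2
    have h3 : p ^ 3 ≤ p ^ 1 := by simpa using h2
    have h4 := (Nat.pow_le_pow_iff_right hp.out.one_lt).mp h3
    omega
  have hbp : b ^ p = 1 := hbk
  obtain ⟨M₁, ⟨e₁⟩, hc₁⟩ := abelian_split p b hbp (fun y hy => hbr ⟨y, hy⟩)
  rw [hcard] at hc₁
  have hM₁ : Nat.card M₁ = p ^ 3 := by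
    have h1 : Nat.card M₁ * p = p ^ 3 * p := by rw [hc₁]; ring
    exact Nat.eq_of_mul_eq_mul_right hp.out.pos h1
  -- inside `M₁`
  have hr₁ : Nat.card (powMonoidHom p : ↥M₁ →* ↥M₁).range ≤ p := by
    have h1 : ((powMonoidHom p : ↥M₁ →* ↥M₁).range).map M₁.subtype ≤
        (powMonoidHom p : G →* G).range := by
      rintro _ ⟨_, ⟨y, rfl⟩, rfl⟩
      exact ⟨(y : G), rfl⟩
    have h2 := Subgroup.card_le_of_le h1
    rwa [Subgroup.card_map_of_injective M₁.subtype_injective, hr] at h2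
  have hkr₁ := card_ker_mul_card_range (powMonoidHom p : ↥M₁ →* ↥M₁)
  rw [hM₁] at hkr₁
  obtain ⟨i, hi3, hi⟩ := (Nat.dvd_prime_pow hp.out).mp (Dvd.intro_left _ hkr₁)
  have hi1 : i ≤ 1 := by
    rw [hi] at hr₁
    have h3 : p ^ i ≤ p ^ 1 := by simpa using hr₁
    exact (Nat.pow_le_pow_iff_right hp.out.one_lt).mp h3
  have hker₁ : Nat.card (powMonoidHom p : ↥M₁ →* ↥M₁).ker = p ^ (3 - i) := by
    rw [hi] at hkr₁
    have h1 : Nat.card (powMonoidHom p : ↥M₁ →* ↥M₁).ker * p ^ i = p ^ (3 - i) * p ^ i := by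
      rw [hkr₁, ← pow_add]; congr 1; omega
    exact Nat.eq_of_mul_eq_mul_right (pow_pos hp.out.pos i) h1
  obtain ⟨c, hck, hcr⟩ : ∃ c : ↥M₁, c ∈ (powMonoidHom p : ↥M₁ →* ↥M₁).ker ∧
      c ∉ (powMonoidHom p : ↥M₁ →* ↥M₁).range := by
    by_contra hcon
    push Not at hcon
    have h1 : (powMonoidHom p : ↥M₁ →* ↥M₁).ker ≤ (powMonoidHom p : ↥M₁ →* ↥M₁).range :=
      fun x hx => hcon x hx
    have h2 := Subgroup.card_le_of_le h1
    rw [hker₁, hi] at h2
    have h4 := (Nat.pow_le_pow_iff_right hp.out.one_lt).mp h2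
    omega
  have hcp : c ^ p = 1 := hck
  obtain ⟨M₂, ⟨e₂⟩, hc₂⟩ := abelian_split p c hcp (fun y hy => hcr ⟨y, hy⟩)
  rw [hM₁] at hc₂
  have hM₂ : Nat.card M₂ = p ^ 2 := by
    have h1 : Nat.card M₂ * p = p ^ 2 * p := by rw [hc₂]; ring
    exact Nat.eq_of_mul_eq_mul_right hp.out.pos h1
  -- `M₂` is cyclic
  obtain ⟨x, hx⟩ : ∃ x : ↥M₂, x ^ p ≠ 1 := by
    by_contra hcon
    push Not at hcon
    have hall : ∀ g : G, g ^ p = 1 := by
      intro g
      obtain ⟨⟨m, z⟩, rfl⟩ := e₁.surjective g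
      obtain ⟨⟨n, w⟩, rfl⟩ := e₂.surjective m
      rw [← map_pow, Prod.pow_mk, ← map_pow, Prod.pow_mk, hcon n,
        pow_prime_multiplicative_zmod p w, pow_prime_multiplicative_zmod p z]
      have h1 : ((1 : ↥M₂), (1 : Multiplicative (ZMod p))) = 1 := rfl
      rw [h1, map_one]
      have h2 : ((1 : ↥M₁), (1 : Multiplicative (ZMod p))) = 1 := rfl
      rw [h2, map_one]
    have h1 : (powMonoidHom p : G →* G).range = ⊥ := by
      rw [eq_bot_iff]
      rintro _ ⟨y, rfl⟩
      exact Subgroup.mem_bot.mpr (hall y)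
    rw [h1, Subgroup.card_bot] at hr
    exact hp.out.one_lt.ne hr
  have hord : orderOf x = p ^ 2 := by
    have hdvd : orderOf x ∣ p ^ 2 := hM₂ ▸ orderOf_dvd_natCard x
    obtain ⟨k, hk2, hk⟩ := (Nat.dvd_prime_pow hp.out).mp hdvd
    interval_cases k
    · exfalso; rw [pow_zero, orderOf_eq_one_iff] at hk; exact hx (by rw [hk, one_pow])
    · exfalso; rw [pow_one] at hk; exact hx (by rw [← hk]; exact pow_orderOf_eq_one x)
    · exact hk
  haveI : IsCyclic ↥M₂ := isCyclic_of_orderOf_eq_card x (by rw [hord, hM₂])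
  obtain ⟨e₃⟩ := zmod_equiv_of_cyclic (C := ↥M₂) (p ^ 2) hM₂
  exact iso_assemble p e₁ e₂ e₃

theorem abelian_cases_comm [Finite G] (p : ℕ) [hp : Fact p.Prime] (hcard : Nat.card G = p ^ 4) :
    (∀ x : G, x ^ p = 1) ∨ Nonempty (G ≃* Multiplicative (ZMod (p ^ 2) × ZMod p × ZMod p)) ∨
      (frattini G).index ≤ p ^ 2 := by
  have hG : IsPGroup p G := IsPGroup.of_card hcard
  obtain ⟨j, hj4, hj⟩ := (Nat.dvd_prime_pow hp.out).mp
    (hcard ▸ Subgroup.card_subgroup_dvd_card (powMonoidHom p : G →* G).range)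
  rcases Nat.lt_or_ge j 2 with hlt | hge
  · interval_cases j
    · left
      intro x
      have h1 : (powMonoidHom p : G →* G).range = ⊥ :=
        Subgroup.card_eq_one.mp (by simpa using hj)
      have h2 : x ^ p ∈ (powMonoidHom p : G →* G).range := ⟨x, rfl⟩
      rw [h1] at h2
      exact Subgroup.mem_bot.mp h2
    · right; left
      exact abelian_type_211 p hcard (by simpa using hj)
  · right; right
    have hle : (powMonoidHom p : G →* G).range ≤ frattini G := by
      rintro _ ⟨y, rfl⟩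
      exact Cfsg.Agent.Lib.Helper72.pow_mem_frattini hG y
    obtain ⟨i, hi4, hi⟩ := (Nat.dvd_prime_pow hp.out).mp
      (hcard ▸ Subgroup.card_subgroup_dvd_card (frattini G))
    have h2 := Subgroup.card_le_of_le hle
    rw [hj, hi] at h2
    have hji : j ≤ i := (Nat.pow_le_pow_iff_right hp.out.one_lt).mp h2
    have hidx := (frattini G).card_mul_index
    rw [hcard, hi] at hidx
    have h3 : (frattini G).index = p ^ (4 - i) := by
      have h4 : p ^ i * (frattini G).index = p ^ i * p ^ (4 - i) := by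
        rw [hidx, ← pow_add]; congr 1; omega
      exact Nat.eq_of_mul_eq_mul_left (pow_pos hp.out.pos i) h4
    rw [h3]
    exact Nat.pow_le_pow_right hp.out.pos (by omega)

end Abelian

/-- Abelian groups of order `p⁴`. -/
theorem abelian_cases {G : Type*} [Group G] [Finite G] (p : ℕ) [hp : Fact p.Prime]
    (hcard : Nat.card G = p ^ 4) (hab : ∀ a b : G, a * b = b * a) :
    (∀ x : G, x ^ p = 1) ∨ Nonempty (G ≃* Multiplicative (ZMod (p ^ 2) × ZMod p × ZMod p)) ∨
      (frattini G).index ≤ p ^ 2 := by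
  letI : CommGroup G := { (inferInstance : Group G) with mul_comm := hab }
  exact abelian_cases_comm p hcard

end Cfsg.Agent.Lib.Helper91.OrderP4
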