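import Mathlib
import Cfsg.Agent.Lib.Helper27.ReeCentDefs

/-! Project RC (helper27, S1152): PIECE ARITH. -/

set_option autoImplicit false
set_option linter.unusedSectionVars false
set_option linter.unusedVariables false

namespace Cfsg.Agent.Lib.Helper27.ReeCent

theorem rcarith_h91_q_mod (m : ℕ) :
    3 ^ (2 * m + 1) % 16 = 3 ∨ 3 ^ (2 * m + 1) % 16 = 11 := by
  have h9 : 9 ^ m % 16 = 1 ∨ 9 ^ m % 16 = 9 := by
    induction m with
    | zero => left; rfl
    | succ k ih =>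
      rw [pow_succ, Nat.mul_mod]
      rcases ih with h | h <;> rw [h] <;> simp
  have e : 3 ^ (2 * m + 1) = 9 ^ m * 3 := by
    rw [pow_succ, pow_mul]
    norm_num
  rw [e, Nat.mul_mod]
  rcases h9 with h | h <;> rw [h] <;> simp

-- PIECE ARITH (1/2)
theorem not_sixteen_dvd (m : ℕ) :
    ¬ 16 ∣ (3 ^ (2 * m + 1)) ^ 3 * (3 ^ (2 * m + 1) - 1) * ((3 ^ (2 * m + 1)) ^ 3 + 1) := by
  have hq := rcarith_h91_q_mod m
  generalize 3 ^ (2 * m + 1) = q at hq
  rw [Nat.dvd_iff_mod_eq_zero]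
  rcases hq with h | h
  · have a : q ^ 3 % 16 = 11 := by rw [Nat.pow_mod, h]
    have b : (q - 1) % 16 = 2 := by omega
    have c : (q ^ 3 + 1) % 16 = 12 := by omega
    rw [Nat.mul_mod, Nat.mul_mod (q ^ 3), a, b, c]
    decide
  · have a : q ^ 3 % 16 = 3 := by rw [Nat.pow_mod, h]
    have b : (q - 1) % 16 = 10 := by omega
    have c : (q ^ 3 + 1) % 16 = 4 := by omega
    rw [Nat.mul_mod, Nat.mul_mod (q ^ 3), a, b, c]
    decide

-- PIECE ARITH (2/2)
theorem card_mod_four (m : ℕ) : 3 ^ (2 * m + 1) % 4 = 3 := by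
  have h9 : 9 ^ m % 4 = 1 := by
    induction m with
    | zero => rfl
    | succ k ih => rw [pow_succ, Nat.mul_mod, ih]
  have e : 3 ^ (2 * m + 1) = 9 ^ m * 3 := by
    rw [pow_succ, pow_mul]
    norm_num
  rw [e, Nat.mul_mod, h9]

end Cfsg.Agent.Lib.Helper27.ReeCent
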