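import Mathlib
import Cfsg.Agent.Lib.Helper27.ReeCentDefs

/-! Project RC (helper27, S1152): PIECE ELEM. -/

set_option autoImplicit false
set_option linter.unusedSectionVars false
set_option linter.unusedVariables false

namespace Cfsg.Agent.Lib.Helper27.ReeCent

theorem rcelem_h91_sq (i : Multiplicative (ZMod 2)) : i * i = 1 := by
  revert i
  decide

-- PIECE ELEM
theorem exists_elem8 {G P : Type*} [Group G] [Group P] (C : Subgroup G)
    (Ψ : ↥C ≃* Multiplicative (ZMod 2) × P) (V : Subgroup P) (hV : Nat.card V = 4)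
    (hexp : ∀ x ∈ V, x * x = 1) :
    ∃ E : Subgroup G, Nat.card E = 8 ∧ ∀ x ∈ E, x * x = 1 := by
  refine ⟨(((⊤ : Subgroup (Multiplicative (ZMod 2))).prod V).map Ψ.symm.toMonoidHom).map
    C.subtype, ?_, ?_⟩
  · rw [Subgroup.card_map_of_injective C.subtype_injective,
      Subgroup.card_map_of_injective Ψ.symm.injective,
      Nat.card_congr ((⊤ : Subgroup (Multiplicative (ZMod 2))).prodEquiv V).toEquiv,
      Nat.card_prod, hV, Subgroup.card_top]
    have h2 : Nat.card (Multiplicative (ZMod 2)) = 2 := by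
      show Nat.card (ZMod 2) = 2
      exact Nat.card_zmod 2
    rw [h2]
  · rintro x ⟨c, ⟨y, hy, rfl⟩, rfl⟩
    rw [SetLike.mem_coe, Subgroup.mem_prod] at hy
    have h1 : y * y = 1 := by
      apply Prod.ext
      · exact rcelem_h91_sq _
      · exact hexp _ hy.2
    have h2 : Ψ.symm y * Ψ.symm y = 1 := by
      rw [← map_mul, h1, map_one]
    have h3 : ((Ψ.symm y * Ψ.symm y : ↥C) : G) = 1 := by rw [h2]; rfl
    exact h3

end Cfsg.Agent.Lib.Helper27.ReeCent
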