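import Mathlib
import Cfsg.Agent.Lib.Helper27.ReeCentDefs

/-! Project RC (helper27, S1152): PIECE SYL. -/

set_option autoImplicit false
set_option linter.unusedSectionVars false
set_option linter.unusedVariables false

namespace Cfsg.Agent.Lib.Helper27.ReeCent

-- PIECE SYL
theorem sylow_two_elem {G : Type*} [Group G] [Finite G] (h16 : ¬ 16 ∣ Nat.card G)
    (E : Subgroup G) (hE : Nat.card E = 8) (hexp : ∀ x ∈ E, x * x = 1) :
    ∀ S : Sylow 2 G, Nat.card S = 8 ∧ ∀ x ∈ S, x * x = 1 := by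
  have : Fact (Nat.Prime 2) := ⟨Nat.prime_two⟩
  have hEp : IsPGroup 2 ↥E := IsPGroup.of_card (n := 3) (by rw [hE]; norm_num)
  obtain ⟨P₀, hP₀⟩ := hEp.exists_le_sylow
  have hcard : ∀ S : Sylow 2 G, Nat.card S = 8 := by
    intro S
    have h1 : Nat.card S = Nat.card P₀ := by
      rw [Sylow.card_eq_multiplicity, Sylow.card_eq_multiplicity]
    obtain ⟨k, hk⟩ := (IsPGroup.iff_card.1 P₀.isPGroup')
    have h8 : 8 ∣ Nat.card P₀ := by
      rw [← hE]
      exact Subgroup.card_dvd_of_le hP₀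
    have hG : Nat.card P₀ ∣ Nat.card G := Subgroup.card_subgroup_dvd_card _
    have hk3 : 3 ≤ k := by
      by_contra hlt
      push Not at hlt
      rw [hk] at h8
      have h9 : (2 : ℕ) ^ 3 ∣ 2 ^ k := by simpa using h8
      have := (Nat.pow_dvd_pow_iff_le_right (by norm_num : 1 < 2)).1 h9
      omega
    have hk4 : k < 4 := by
      by_contra hge
      push Not at hge
      apply h16
      have h9 : (2 : ℕ) ^ 4 ∣ 2 ^ k := pow_dvd_pow 2 hge
      rw [← hk] at h9
      exact (by simpa using h9 : 16 ∣ Nat.card P₀).trans hG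
    have hk' : k = 3 := by omega
    rw [h1, hk, hk']
    norm_num
  have hEP : E = (P₀ : Subgroup G) :=
    Subgroup.eq_of_le_of_card_ge hP₀ (by rw [hE]; exact (hcard P₀).le)
  intro S
  refine ⟨hcard S, ?_⟩
  obtain ⟨g, hg⟩ := MulAction.exists_smul_eq G P₀ S
  intro x hx
  have hx' : x ∈ ((g • P₀ : Sylow 2 G) : Subgroup G) := by rw [hg]; exact hx
  rw [Sylow.coe_subgroup_smul, Subgroup.mem_pointwise_smul_iff_inv_smul_mem] at hx'
  have hsm : (MulAut.conj g)⁻¹ • x = g⁻¹ * x * g := by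
    simp [MulAut.smul_def]
  rw [hsm] at hx'
  have hy : g⁻¹ * x * g ∈ E := by
    rw [hEP]
    exact hx'
  have h1 := hexp _ hy
  have e : g⁻¹ * x * g * (g⁻¹ * x * g) = g⁻¹ * (x * x) * g := by group
  rw [e] at h1
  have h2 : x * x = g * (g⁻¹ * (x * x) * g) * g⁻¹ := by group
  rw [h2, h1]
  group

end Cfsg.Agent.Lib.Helper27.ReeCent
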