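import Mathlib
import Cfsg.Agent.S0268
import Cfsg.Agent.S0276

set_option autoImplicit false

namespace Cfsg.Agent.Lib.Helper91

open Matrix Polynomial

variable {F : Type*} [Field F]

/-- the standard element of order four of `SL₂` -/
def sl2J (F : Type*) [Field F] : SpecialLinearGroup (Fin 2) F :=
  ⟨!![0, -1; 1, 0], by simp [Matrix.det_fin_two_of]⟩

/-- an element of `SL₂(F)` whose square is `-1` is conjugate to the standard one -/
theorem sl2_exists_conj_J [Fintype F] (hodd : Fintype.card F % 2 = 1)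
    (U : SpecialLinearGroup (Fin 2) F)
    (hU : ((U * U : SpecialLinearGroup (Fin 2) F) : Matrix (Fin 2) (Fin 2) F) = -1) :
    ∃ h : SpecialLinearGroup (Fin 2) F, h * U * h⁻¹ = sl2J F := by
  have hchar : ringChar F ≠ 2 := by
    intro h
    have := FiniteField.even_card_of_char_two h
    omega
  have h2 : (2 : F) ≠ 0 := Ring.two_ne_zero hchar
  have hdet : (U : Matrix (Fin 2) (Fin 2) F) 0 0 * (U : Matrix (Fin 2) (Fin 2) F) 1 1 -
      (U : Matrix (Fin 2) (Fin 2) F) 0 1 * (U : Matrix (Fin 2) (Fin 2) F) 1 0 = 1 := by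
    have := U.2
    rwa [Matrix.det_fin_two] at this
  have hsq : (U : Matrix (Fin 2) (Fin 2) F) * (U : Matrix (Fin 2) (Fin 2) F) = -1 := hU
  have h00 := congrFun (congrFun hsq 0) 0
  have h11 := congrFun (congrFun hsq 1) 1
  simp only [Matrix.mul_apply, Fin.sum_univ_two, Matrix.neg_apply, Matrix.one_apply_eq] at h00 h11
  obtain ⟨a, ha⟩ : ∃ a, a = (U : Matrix (Fin 2) (Fin 2) F) 0 0 := ⟨_, rfl⟩
  obtain ⟨b, hb⟩ : ∃ b, b = (U : Matrix (Fin 2) (Fin 2) F) 0 1 := ⟨_, rfl⟩
  obtain ⟨c, hc⟩ : ∃ c, c = (U : Matrix (Fin 2) (Fin 2) F) 1 0 := ⟨_, rfl⟩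
  obtain ⟨d, hd⟩ : ∃ d, d = (U : Matrix (Fin 2) (Fin 2) F) 1 1 := ⟨_, rfl⟩
  rw [← ha, ← hb, ← hc, ← hd] at hdet
  rw [← ha, ← hb, ← hc] at h00
  rw [← hb, ← hc, ← hd] at h11
  have htr : a + d = 0 := by
    have : (a + d) ^ 2 = 0 := by linear_combination h00 + h11 + 2 * hdet
    exact (pow_eq_zero_iff (two_ne_zero)).mp this
  have hd' : d = -a := by linear_combination htr
  have hkey : a ^ 2 + b * c = -1 := by linear_combination h00
  obtain ⟨x, y, hxy⟩ : ∃ x y : F, -b * x ^ 2 + 2 * a * x * y + c * y ^ 2 = 1 := by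
    by_cases hb0 : b = 0
    · have ha2 : a ^ 2 = -1 := by rw [hb0] at hkey; linear_combination hkey
      have ha0 : a ≠ 0 := by
        rintro h0
        rw [h0] at ha2
        have : (1 : F) = 0 := by linear_combination ha2
        exact one_ne_zero this
      refine ⟨(1 - c) / (2 * a), 1, ?_⟩
      rw [hb0]
      field_simp
      ring
    · obtain ⟨X, Y, hXY⟩ := FiniteField.exists_root_sum_quadratic
        (f := (C (-b) * Polynomial.X ^ 2 + C (-1) : Polynomial F))
        (g := (C (-b⁻¹) * Polynomial.X ^ 2 : Polynomial F))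
        (by
          rw [Polynomial.degree_add_eq_left_of_degree_lt]
          · exact Polynomial.degree_C_mul_X_pow 2 (neg_ne_zero.mpr hb0)
          · rw [Polynomial.degree_C_mul_X_pow 2 (neg_ne_zero.mpr hb0)]
            exact lt_of_le_of_lt Polynomial.degree_C_le (by norm_num))
        (Polynomial.degree_C_mul_X_pow 2 (neg_ne_zero.mpr (inv_ne_zero hb0)))
        hodd
      simp only [Polynomial.eval_add, Polynomial.eval_pow, Polynomial.eval_X, Polynomial.eval_C,
        Polynomial.eval_mul] at hXY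
      obtain ⟨bi, hbi⟩ : ∃ bi, bi = b⁻¹ := ⟨_, rfl⟩
      rw [← hbi] at hXY
      have hbb : b * bi = 1 := by rw [hbi]; exact mul_inv_cancel₀ hb0
      refine ⟨X + a * bi * Y, Y, ?_⟩
      linear_combination hXY + bi * Y ^ 2 * hkey -
        (c * Y ^ 2 + 2 * a * X * Y + a ^ 2 * bi * Y ^ 2) * hbb
  have hdeth : (!![x, y; -(x * a + y * c), y * a - x * b] : Matrix (Fin 2) (Fin 2) F).det = 1 := by
    rw [Matrix.det_fin_two_of]
    linear_combination hxy
  refine ⟨⟨!![x, y; -(x * a + y * c), y * a - x * b], hdeth⟩, ?_⟩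
  apply mul_inv_eq_of_eq_mul
  apply Subtype.ext
  show (!![x, y; -(x * a + y * c), y * a - x * b] : Matrix (Fin 2) (Fin 2) F) *
      (U : Matrix (Fin 2) (Fin 2) F) =
    (!![0, -1; 1, 0] : Matrix (Fin 2) (Fin 2) F) * !![x, y; -(x * a + y * c), y * a - x * b]
  subst hd'
  ext i j
  fin_cases i <;> fin_cases j <;>
    simp [Matrix.mul_apply, Fin.sum_univ_two, ← ha, ← hb, ← hc, ← hd] <;>
    first
      | ring1
      | linear_combination (-x) * hkey
      | linear_combination (-y) * hkey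

/-- an involution of `PSL₂(F)` lifts to an element of `SL₂(F)` whose square is `-1` -/
theorem psl2_lift_invol [Fintype F] (hodd : Fintype.card F % 2 = 1)
    (u : Matrix.ProjectiveSpecialLinearGroup (Fin 2) F) (hu : orderOf u = 2) :
    ∃ U : SpecialLinearGroup (Fin 2) F,
      (QuotientGroup.mk U : Matrix.ProjectiveSpecialLinearGroup (Fin 2) F) = u ∧
      ((U * U : SpecialLinearGroup (Fin 2) F) : Matrix (Fin 2) (Fin 2) F) = -1 := by
  have hodd' : Odd (Fintype.card F) := Nat.odd_iff.mpr hodd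
  obtain ⟨U, rfl⟩ := QuotientGroup.mk_surjective u
  refine ⟨U, rfl, ?_⟩
  have hUc : U ∉ Subgroup.center (SpecialLinearGroup (Fin 2) F) := by
    intro h
    have : (QuotientGroup.mk U : Matrix.ProjectiveSpecialLinearGroup (Fin 2) F) = 1 :=
      (QuotientGroup.eq_one_iff _).mpr h
    rw [this, orderOf_one] at hu
    omega
  have hUU : U * U ∈ Subgroup.center (SpecialLinearGroup (Fin 2) F) := by
    rw [← QuotientGroup.eq_one_iff, QuotientGroup.mk_mul, ← pow_two]
    have := pow_orderOf_eq_one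
      (QuotientGroup.mk U : Matrix.ProjectiveSpecialLinearGroup (Fin 2) F)
    rwa [hu] at this
  have hU1 : U ≠ 1 := by
    rintro rfl
    exact hUc (Subgroup.one_mem _)
  have hUU1 : U * U ≠ 1 := by
    intro h
    exact hUc (Cfsg.Agent.S0276.neg_one_mem_center _ (Cfsg.Agent.S0268.result hodd' U hU1 h))
  exact Cfsg.Agent.S0268.result hodd' (U * U) hUU1 (Cfsg.Agent.S0276.center_mul_self _ hUU)

/-- all involutions of `PSL₂(F)`, `F` finite of odd order, are conjugate -/
theorem psl2_invol_conj [Fintype F] (hodd : Fintype.card F % 2 = 1)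
    (u v : Matrix.ProjectiveSpecialLinearGroup (Fin 2) F) (hu : orderOf u = 2)
    (hv : orderOf v = 2) : ∃ g, g * u * g⁻¹ = v := by
  obtain ⟨U, rfl, hU⟩ := psl2_lift_invol hodd u hu
  obtain ⟨V, rfl, hV⟩ := psl2_lift_invol hodd v hv
  obtain ⟨h1, h1U⟩ := sl2_exists_conj_J hodd U hU
  obtain ⟨h2, h2V⟩ := sl2_exists_conj_J hodd V hV
  refine ⟨QuotientGroup.mk (h2⁻¹ * h1), ?_⟩
  rw [← QuotientGroup.mk_mul, ← QuotientGroup.mk_inv, ← QuotientGroup.mk_mul]
  congr 1
  have : V = h2⁻¹ * sl2J F * h2 := by rw [← h2V]; group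
  rw [this, ← h1U]
  group

end Cfsg.Agent.Lib.Helper91
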