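import Mathlib
import Cfsg.Agent.Lib.Helper50.SU4Q3Def
import Cfsg.Agent.Lib.Helper71.Asch5

/-! Project SU4 (helper50), piece Q3MIN (helper91): the two-qubit Pauli group is a minimal
non-scalar normal subgroup of its normaliser. -/

set_option autoImplicit false

namespace Cfsg.Agent.Lib.Helper91.SU4Q3MIN

open Matrix Cfsg.Geo Cfsg.Agent.Lib.Helper71.Asch Cfsg.Agent.Lib.Helper50.SU4Q3Def

variable {F : Type*} [Field F] [Fintype F] {q : ℕ}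

theorem su4q3min_iota_ne (ι : F) (hι : ι ^ 2 = -1) : ι ≠ 0 := by
  rintro rfl
  simp at hι

/-- The scalar `ι` as a unit. -/
def su4q3min_z (ι : F) (hι : ι ^ 2 = -1) : GL (Fin 4) F :=
  ⟨ι • 1, ι⁻¹ • 1, by simp [su4q3min_iota_ne ι hι], by simp [su4q3min_iota_ne ι hι]⟩

theorem su4q3min_z_mem (ι : F) (hι : ι ^ 2 = -1) : su4q3min_z ι hι ∈ su4Pauli ι :=
  Subgroup.subset_closure (Or.inl rfl)

theorem su4q3min_z_comm (ι : F) (hι : ι ^ 2 = -1) (a : GL (Fin 4) F) :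
    Commute (su4q3min_z ι hι) a := by
  apply Units.ext
  simp [su4q3min_z]

/-- An involution as a unit. -/
def su4q3min_inv (P : Matrix (Fin 4) (Fin 4) F) (hP : P * P = 1) : GL (Fin 4) F :=
  ⟨P, P, hP, hP⟩

theorem su4q3min_u_aux (ι : F) (hι : ι ^ 2 = -1) (h2 : (2 : F) ≠ 0)
    (P : Matrix (Fin 4) (Fin 4) F) (hP : P * P = 1) :
    (1 + ι • P) * ((2⁻¹ : F) • (1 - ι • P)) = 1 ∧ ((2⁻¹ : F) • (1 - ι • P)) * (1 + ι • P) = 1 := by
  have hii : ι * ι = -1 := by rw [← pow_two, hι]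
  have h1 : (1 + ι • P) * (1 - ι • P) = (2 : F) • (1 : Matrix (Fin 4) (Fin 4) F) := by
    simp only [add_mul, mul_sub, sub_mul, mul_add, one_mul, mul_one, smul_mul_smul_comm, hP, hii]
    module
  have h3 : (1 - ι • P) * (1 + ι • P) = (2 : F) • (1 : Matrix (Fin 4) (Fin 4) F) := by
    simp only [add_mul, mul_sub, sub_mul, mul_add, one_mul, mul_one, smul_mul_smul_comm, hP, hii]
    module
  constructor
  · rw [mul_smul_comm, h1, smul_smul, inv_mul_cancel₀ h2, one_smul]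
  · rw [smul_mul_assoc, h3, smul_smul, inv_mul_cancel₀ h2, one_smul]

/-- The unit `1 + ι P` for an involution `P`. -/
def su4q3min_u (ι : F) (hι : ι ^ 2 = -1) (h2 : (2 : F) ≠ 0)
    (P : Matrix (Fin 4) (Fin 4) F) (hP : P * P = 1) : GL (Fin 4) F :=
  ⟨1 + ι • P, (2⁻¹ : F) • (1 - ι • P), (su4q3min_u_aux ι hι h2 P hP).1,
    (su4q3min_u_aux ι hι h2 P hP).2⟩

theorem su4q3min_c1 (ι : F) (hι : ι ^ 2 = -1) (h2 : (2 : F) ≠ 0)
    (P : Matrix (Fin 4) (Fin 4) F) (hP : P * P = 1) (x : GL (Fin 4) F)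
    (hx : x.1 * P = P * x.1) : su4q3min_u ι hι h2 P hP * x = x * su4q3min_u ι hι h2 P hP := by
  apply Units.ext
  show (1 + ι • P) * x.1 = x.1 * (1 + ι • P)
  rw [add_mul, mul_add, one_mul, mul_one, smul_mul_assoc, mul_smul_comm, hx]

theorem su4q3min_c2 (ι : F) (hι : ι ^ 2 = -1) (h2 : (2 : F) ≠ 0)
    (p : GL (Fin 4) F) (hP : p.1 * p.1 = 1) (x : GL (Fin 4) F)
    (hx : x.1 * p.1 = -(p.1 * x.1)) :
    su4q3min_z ι hι * (su4q3min_u ι hι h2 p.1 hP * x) = x * p * su4q3min_u ι hι h2 p.1 hP := by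
  have hii : ι * ι = -1 := by rw [← pow_two, hι]
  have h1 : p.1 * x.1 = -(x.1 * p.1) := by rw [hx, neg_neg]
  apply Units.ext
  show (ι • (1 : Matrix (Fin 4) (Fin 4) F)) * ((1 + ι • p.1) * x.1) = x.1 * p.1 * (1 + ι • p.1)
  rw [smul_mul_assoc, one_mul, add_mul, one_mul, smul_mul_assoc, smul_add, smul_smul, hii, h1,
    mul_add, mul_one, mul_smul_comm, mul_assoc, hP, mul_one]
  module

theorem su4q3min_c3 (ι : F) (hι : ι ^ 2 = -1) (h2 : (2 : F) ≠ 0)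
    (p : GL (Fin 4) F) (hP : p.1 * p.1 = 1) (x : GL (Fin 4) F)
    (hx : x.1 * p.1 = -(p.1 * x.1)) :
    x * su4q3min_u ι hι h2 p.1 hP = su4q3min_u ι hι h2 p.1 hP * (su4q3min_z ι hι * x * p) := by
  have hii : ι * ι = -1 := by rw [← pow_two, hι]
  have h1 : p.1 * x.1 = -(x.1 * p.1) := by rw [hx, neg_neg]
  have h3 : p.1 * (x.1 * p.1) = -x.1 := by
    rw [← mul_assoc, h1, neg_mul, mul_assoc, hP, mul_one]
  apply Units.ext
  show x.1 * (1 + ι • p.1) = (1 + ι • p.1) * ((ι • (1 : Matrix (Fin 4) (Fin 4) F)) * x.1 * p.1)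
  rw [smul_mul_assoc, one_mul, smul_mul_assoc, add_mul, one_mul, smul_mul_smul_comm, hii, h3,
    mul_add, mul_one, mul_smul_comm]
  module

theorem su4q3min_key (ι : F) (hι : ι ^ 2 = -1) (h2 : (2 : F) ≠ 0)
    (hAC : ∀ x ∈ su4Pauli ι, ∀ y ∈ su4Pauli ι,
      x.1 * y.1 = y.1 * x.1 ∨ x.1 * y.1 = -(y.1 * x.1))
    (p : GL (Fin 4) F) (hp : p ∈ su4Pauli ι) (hP : p.1 * p.1 = 1) :
    su4q3min_u ι hι h2 p.1 hP ∈ subgroupNormalizer (su4Pauli ι) ∧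
    ∀ a ∈ su4Pauli ι, a.1 * p.1 = -(p.1 * a.1) →
      su4q3min_u ι hι h2 p.1 hP * a * (su4q3min_u ι hι h2 p.1 hP)⁻¹ =
        (su4q3min_z ι hι)⁻¹ * (a * p) := by
  set u := su4q3min_u ι hι h2 p.1 hP with hu
  set z := su4q3min_z ι hι with hz
  have hzR : z ∈ su4Pauli ι := su4q3min_z_mem ι hι
  have hB : ∀ a : GL (Fin 4) F, a.1 * p.1 = -(p.1 * a.1) →
      u * a * u⁻¹ = z⁻¹ * (a * p) := by
    intro a ha
    have h := su4q3min_c2 ι hι h2 p hP a ha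
    rw [← hu, ← hz] at h
    have h' : u * a = z⁻¹ * (a * p * u) := by rw [← h]; group
    rw [h']; group
  have hB' : ∀ a : GL (Fin 4) F, a.1 * p.1 = -(p.1 * a.1) →
      u⁻¹ * a * u = z * a * p := by
    intro a ha
    have h := su4q3min_c3 ι hι h2 p hP a ha
    rw [← hu, ← hz] at h
    rw [mul_assoc, h]; group
  have hf : ∀ x ∈ su4Pauli ι, u * x * u⁻¹ ∈ su4Pauli ι := by
    intro x hx
    rcases hAC x hx p hp with h | h
    · have h' := su4q3min_c1 ι hι h2 p.1 hP x h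
      rw [← hu] at h'
      rw [h']; simpa using hx
    · rw [hB x h]
      exact Subgroup.mul_mem _ (Subgroup.inv_mem _ hzR) (Subgroup.mul_mem _ hx hp)
  have hb : ∀ x ∈ su4Pauli ι, u⁻¹ * x * u ∈ su4Pauli ι := by
    intro x hx
    rcases hAC x hx p hp with h | h
    · have h' := su4q3min_c1 ι hι h2 p.1 hP x h
      rw [← hu] at h'
      rw [mul_assoc, ← h']; simpa using hx
    · rw [hB' x h]
      exact Subgroup.mul_mem _ (Subgroup.mul_mem _ hzR hx) hp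
  refine ⟨?_, fun a _ ha => hB a ha⟩
  unfold subgroupNormalizer
  rw [Subgroup.mem_normalizer_iff]
  intro x
  constructor
  · exact hf x
  · intro hx
    have := hb _ hx
    have e : u⁻¹ * (u * x * u⁻¹) * u = x := by group
    rwa [e] at this

theorem su4q3min_conseq (ι : F) (hι : ι ^ 2 = -1) (h2 : (2 : F) ≠ 0)
    (hAC : ∀ x ∈ su4Pauli ι, ∀ y ∈ su4Pauli ι,
      x.1 * y.1 = y.1 * x.1 ∨ x.1 * y.1 = -(y.1 * x.1))
    (L' : Subgroup (GL (Fin 4) F)) (hL : L' ≤ su4Pauli ι)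
    (hN : Nrm (subgroupNormalizer (su4Pauli ι)) L') (a : GL (Fin 4) F) (ha : a ∈ L')
    (p : GL (Fin 4) F) (hp : p ∈ su4Pauli ι) (hP : p.1 * p.1 = 1)
    (hap : a.1 * p.1 = -(p.1 * a.1)) :
    (su4q3min_z ι hι)⁻¹ * p ∈ L' := by
  obtain ⟨hu, hc⟩ := su4q3min_key ι hι h2 hAC p hp hP
  have h1 := hN _ hu a ha
  rw [hc a (hL ha) hap] at h1
  have hz : (su4q3min_z ι hι)⁻¹ * (a * p) = a * ((su4q3min_z ι hι)⁻¹ * p) := by
    have hc' : (su4q3min_z ι hι)⁻¹ * a = a * (su4q3min_z ι hι)⁻¹ :=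
      ((su4q3min_z_comm ι hι a).inv_left).eq
    rw [← mul_assoc, hc', mul_assoc]
  rw [hz] at h1
  have := L'.mul_mem (L'.inv_mem ha) h1
  simpa using this

theorem su4q3min_step (ι : F) (hι : ι ^ 2 = -1) (h2 : (2 : F) ≠ 0)
    (hAC : ∀ x ∈ su4Pauli ι, ∀ y ∈ su4Pauli ι,
      x.1 * y.1 = y.1 * x.1 ∨ x.1 * y.1 = -(y.1 * x.1))
    (L' : Subgroup (GL (Fin 4) F)) (hL : L' ≤ su4Pauli ι)
    (hN : Nrm (subgroupNormalizer (su4Pauli ι)) L')
    (p p' : GL (Fin 4) F) (hp' : p' ∈ su4Pauli ι) (hP' : p'.1 * p'.1 = 1)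
    (hpp : p.1 * p'.1 = -(p'.1 * p.1))
    (h : (su4q3min_z ι hι)⁻¹ * p ∈ L') : (su4q3min_z ι hι)⁻¹ * p' ∈ L' := by
  refine su4q3min_conseq ι hι h2 hAC L' hL hN _ h p' hp' hP' ?_
  show ((ι⁻¹ • (1 : Matrix (Fin 4) (Fin 4) F)) * p.1) * p'.1 =
    -(p'.1 * ((ι⁻¹ • (1 : Matrix (Fin 4) (Fin 4) F)) * p.1))
  rw [smul_mul_assoc, one_mul, smul_mul_assoc, mul_smul_comm, hpp, smul_neg]

theorem su4q3min_Z1sq : (Matrix.diagonal ![1, 1, -1, -1] : Matrix (Fin 4) (Fin 4) F) *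
    Matrix.diagonal ![1, 1, -1, -1] = 1 := by
  ext i j; fin_cases i <;> fin_cases j <;> simp [Matrix.mul_apply, Fin.sum_univ_four, Matrix.vecMul, Matrix.mulVec, dotProduct,
    Matrix.diagonal_apply]

theorem su4q3min_Z2sq : (Matrix.diagonal ![1, -1, 1, -1] : Matrix (Fin 4) (Fin 4) F) *
    Matrix.diagonal ![1, -1, 1, -1] = 1 := by
  ext i j; fin_cases i <;> fin_cases j <;> simp [Matrix.mul_apply, Fin.sum_univ_four, Matrix.vecMul, Matrix.mulVec, dotProduct,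
    Matrix.diagonal_apply]

theorem su4q3min_Z12sq : (Matrix.diagonal ![1, -1, -1, 1] : Matrix (Fin 4) (Fin 4) F) *
    Matrix.diagonal ![1, -1, -1, 1] = 1 := by
  ext i j; fin_cases i <;> fin_cases j <;> simp [Matrix.mul_apply, Fin.sum_univ_four, Matrix.vecMul, Matrix.mulVec, dotProduct,
    Matrix.diagonal_apply]

theorem su4q3min_X1sq : (!![0, 0, 1, 0; 0, 0, 0, 1; 1, 0, 0, 0; 0, 1, 0, 0] :
    Matrix (Fin 4) (Fin 4) F) * !![0, 0, 1, 0; 0, 0, 0, 1; 1, 0, 0, 0; 0, 1, 0, 0] = 1 := by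
  ext i j; fin_cases i <;> fin_cases j <;> simp [Matrix.mul_apply, Fin.sum_univ_four, Matrix.vecMul, Matrix.mulVec, dotProduct,
    Matrix.diagonal_apply]

theorem su4q3min_X2sq : (!![0, 1, 0, 0; 1, 0, 0, 0; 0, 0, 0, 1; 0, 0, 1, 0] :
    Matrix (Fin 4) (Fin 4) F) * !![0, 1, 0, 0; 1, 0, 0, 0; 0, 0, 0, 1; 0, 0, 1, 0] = 1 := by
  ext i j; fin_cases i <;> fin_cases j <;> simp [Matrix.mul_apply, Fin.sum_univ_four, Matrix.vecMul, Matrix.mulVec, dotProduct,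
    Matrix.diagonal_apply]

theorem su4q3min_Z12eq : (Matrix.diagonal ![1, 1, -1, -1] : Matrix (Fin 4) (Fin 4) F) *
    Matrix.diagonal ![1, -1, 1, -1] = Matrix.diagonal ![1, -1, -1, 1] := by
  ext i j; fin_cases i <;> fin_cases j <;> simp [Matrix.mul_apply, Fin.sum_univ_four, Matrix.vecMul, Matrix.mulVec, dotProduct,
    Matrix.diagonal_apply]

theorem su4q3min_ac1 : (Matrix.diagonal ![1, 1, -1, -1] : Matrix (Fin 4) (Fin 4) F) *
    !![0, 0, 1, 0; 0, 0, 0, 1; 1, 0, 0, 0; 0, 1, 0, 0] =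
    -(!![0, 0, 1, 0; 0, 0, 0, 1; 1, 0, 0, 0; 0, 1, 0, 0] * Matrix.diagonal ![1, 1, -1, -1]) := by
  ext i j; fin_cases i <;> fin_cases j <;> simp [Matrix.mul_apply, Fin.sum_univ_four, Matrix.vecMul, Matrix.mulVec, dotProduct,
    Matrix.diagonal_apply]

theorem su4q3min_ac2 : (!![0, 0, 1, 0; 0, 0, 0, 1; 1, 0, 0, 0; 0, 1, 0, 0] :
    Matrix (Fin 4) (Fin 4) F) * Matrix.diagonal ![1, -1, -1, 1] =
    -(Matrix.diagonal ![1, -1, -1, 1] * !![0, 0, 1, 0; 0, 0, 0, 1; 1, 0, 0, 0; 0, 1, 0, 0]) := by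
  ext i j; fin_cases i <;> fin_cases j <;> simp [Matrix.mul_apply, Fin.sum_univ_four, Matrix.vecMul, Matrix.mulVec, dotProduct,
    Matrix.diagonal_apply]

theorem su4q3min_ac3 : (Matrix.diagonal ![1, -1, -1, 1] : Matrix (Fin 4) (Fin 4) F) *
    !![0, 1, 0, 0; 1, 0, 0, 0; 0, 0, 0, 1; 0, 0, 1, 0] =
    -(!![0, 1, 0, 0; 1, 0, 0, 0; 0, 0, 0, 1; 0, 0, 1, 0] * Matrix.diagonal ![1, -1, -1, 1]) := by
  ext i j; fin_cases i <;> fin_cases j <;> simp [Matrix.mul_apply, Fin.sum_univ_four, Matrix.vecMul, Matrix.mulVec, dotProduct,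
    Matrix.diagonal_apply]

theorem su4q3min_ac4 : (!![0, 1, 0, 0; 1, 0, 0, 0; 0, 0, 0, 1; 0, 0, 1, 0] :
    Matrix (Fin 4) (Fin 4) F) * Matrix.diagonal ![1, -1, 1, -1] =
    -(Matrix.diagonal ![1, -1, 1, -1] * !![0, 1, 0, 0; 1, 0, 0, 0; 0, 0, 0, 1; 0, 0, 1, 0]) := by
  ext i j; fin_cases i <;> fin_cases j <;> simp [Matrix.mul_apply, Fin.sum_univ_four, Matrix.vecMul, Matrix.mulVec, dotProduct,
    Matrix.diagonal_apply]

theorem su4q3min_neg_symm {A B : Matrix (Fin 4) (Fin 4) F} (h : A * B = -(B * A)) :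
    B * A = -(A * B) := by rw [h, neg_neg]

/-- Q3MIN: the Pauli group is a minimal non-scalar normal subgroup of its normaliser. -/
theorem Q3MIN (ι : F) (hι : ι ^ 2 = -1) (h2 : (2 : F) ≠ 0)
    (hAC : ∀ x ∈ su4Pauli ι, ∀ y ∈ su4Pauli ι,
      x.1 * y.1 = y.1 * x.1 ∨ x.1 * y.1 = -(y.1 * x.1))
    (hirr : ActsAbsolutelyIrreducibly (matrixSet (su4Pauli ι))) :
    IsMinNS (subgroupNormalizer (su4Pauli ι)) (su4Pauli ι) := by
  obtain ⟨z, hz⟩ : ∃ z : GL (Fin 4) F, z = su4q3min_z ι hι := ⟨_, rfl⟩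
  obtain ⟨Z1, hZ1⟩ : ∃ Z1 : GL (Fin 4) F, Z1.1 = Matrix.diagonal ![1, 1, -1, -1] :=
    ⟨su4q3min_inv _ su4q3min_Z1sq, rfl⟩
  obtain ⟨Z2, hZ2⟩ : ∃ Z2 : GL (Fin 4) F, Z2.1 = Matrix.diagonal ![1, -1, 1, -1] :=
    ⟨su4q3min_inv _ su4q3min_Z2sq, rfl⟩
  obtain ⟨X1, hX1⟩ : ∃ X1 : GL (Fin 4) F,
      X1.1 = !![0, 0, 1, 0; 0, 0, 0, 1; 1, 0, 0, 0; 0, 1, 0, 0] :=
    ⟨su4q3min_inv _ su4q3min_X1sq, rfl⟩
  obtain ⟨X2, hX2⟩ : ∃ X2 : GL (Fin 4) F,
      X2.1 = !![0, 1, 0, 0; 1, 0, 0, 0; 0, 0, 0, 1; 0, 0, 1, 0] :=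
    ⟨su4q3min_inv _ su4q3min_X2sq, rfl⟩
  have hzR : z ∈ su4Pauli ι := by rw [hz]; exact su4q3min_z_mem ι hι
  have hZ1R : Z1 ∈ su4Pauli ι := Subgroup.subset_closure (Or.inr (Or.inl hZ1))
  have hZ2R : Z2 ∈ su4Pauli ι := Subgroup.subset_closure (Or.inr (Or.inr (Or.inl hZ2)))
  have hX1R : X1 ∈ su4Pauli ι :=
    Subgroup.subset_closure (Or.inr (Or.inr (Or.inr (Or.inl hX1))))
  have hX2R : X2 ∈ su4Pauli ι :=
    Subgroup.subset_closure (Or.inr (Or.inr (Or.inr (Or.inr hX2))))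
  have hZ12 : (Z1 * Z2).1 = Matrix.diagonal ![1, -1, -1, 1] := by
    rw [Units.val_mul, hZ1, hZ2]; exact su4q3min_Z12eq
  have hZ12R : Z1 * Z2 ∈ su4Pauli ι := Subgroup.mul_mem _ hZ1R hZ2R
  have sZ1 : Z1.1 * Z1.1 = 1 := by rw [hZ1]; exact su4q3min_Z1sq
  have sZ2 : Z2.1 * Z2.1 = 1 := by rw [hZ2]; exact su4q3min_Z2sq
  have sX1 : X1.1 * X1.1 = 1 := by rw [hX1]; exact su4q3min_X1sq
  have sX2 : X2.1 * X2.1 = 1 := by rw [hX2]; exact su4q3min_X2sq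
  have sZ12 : (Z1 * Z2).1 * (Z1 * Z2).1 = 1 := by rw [hZ12]; exact su4q3min_Z12sq
  have a1 : Z1.1 * X1.1 = -(X1.1 * Z1.1) := by rw [hZ1, hX1]; exact su4q3min_ac1
  have a2 : X1.1 * (Z1 * Z2).1 = -((Z1 * Z2).1 * X1.1) := by rw [hZ12, hX1]; exact su4q3min_ac2
  have a3 : (Z1 * Z2).1 * X2.1 = -(X2.1 * (Z1 * Z2).1) := by rw [hZ12, hX2]; exact su4q3min_ac3
  have a4 : X2.1 * Z2.1 = -(Z2.1 * X2.1) := by rw [hZ2, hX2]; exact su4q3min_ac4
  refine ⟨Subgroup.le_normalizer, ?_, ?_, ?_⟩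
  · intro h hh x hx
    exact (Subgroup.mem_normalizer_iff.mp hh x).mp hx
  · intro hle
    obtain ⟨c, hc⟩ := (mem_scalars_iff _).mp (hle hZ1R)
    rw [hZ1] at hc
    have h00 := congrFun (congrFun hc 0) 0
    have h22 := congrFun (congrFun hc 2) 2
    simp at h00 h22
    apply h2
    linear_combination h00 - h22
  · intro L' hL hN
    by_cases hs : L' ≤ scalars (Fin 4) F
    · exact Or.inl hs
    right
    obtain ⟨a, haL, has⟩ := SetLike.not_le_iff_exists.mp hs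
    have step : ∀ p p' : GL (Fin 4) F, p' ∈ su4Pauli ι → p'.1 * p'.1 = 1 →
        p.1 * p'.1 = -(p'.1 * p.1) → z⁻¹ * p ∈ L' → z⁻¹ * p' ∈ L' := by
      rw [hz]; exact su4q3min_step ι hι h2 hAC L' hL hN
    have e1 : z⁻¹ * Z1 ∈ L' → z⁻¹ * X1 ∈ L' := step Z1 X1 hX1R sX1 a1
    have e1' : z⁻¹ * X1 ∈ L' → z⁻¹ * Z1 ∈ L' := step X1 Z1 hZ1R sZ1 (su4q3min_neg_symm a1)
    have e2 : z⁻¹ * X1 ∈ L' → z⁻¹ * (Z1 * Z2) ∈ L' := step X1 (Z1 * Z2) hZ12R sZ12 a2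
    have e2' : z⁻¹ * (Z1 * Z2) ∈ L' → z⁻¹ * X1 ∈ L' :=
      step (Z1 * Z2) X1 hX1R sX1 (su4q3min_neg_symm a2)
    have e3 : z⁻¹ * (Z1 * Z2) ∈ L' → z⁻¹ * X2 ∈ L' := step (Z1 * Z2) X2 hX2R sX2 a3
    have e3' : z⁻¹ * X2 ∈ L' → z⁻¹ * (Z1 * Z2) ∈ L' :=
      step X2 (Z1 * Z2) hZ12R sZ12 (su4q3min_neg_symm a3)
    have e4 : z⁻¹ * X2 ∈ L' → z⁻¹ * Z2 ∈ L' := step X2 Z2 hZ2R sZ2 a4
    have e4' : z⁻¹ * Z2 ∈ L' → z⁻¹ * X2 ∈ L' := step Z2 X2 hX2R sX2 (su4q3min_neg_symm a4)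
    have hone : z⁻¹ * Z1 ∈ L' ∨ z⁻¹ * Z2 ∈ L' ∨ z⁻¹ * X1 ∈ L' ∨ z⁻¹ * X2 ∈ L' := by
      by_contra hcon
      push_neg at hcon
      obtain ⟨n1, n2, n3, n4⟩ := hcon
      have cons : ∀ p : GL (Fin 4) F, p ∈ su4Pauli ι → p.1 * p.1 = 1 →
          a.1 * p.1 = -(p.1 * a.1) → z⁻¹ * p ∈ L' := by
        rw [hz]; exact su4q3min_conseq ι hι h2 hAC L' hL hN a haL
      have c1 : a.1 * Z1.1 = Z1.1 * a.1 := by
        rcases hAC a (hL haL) Z1 hZ1R with h | h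
        · exact h
        · exact absurd (cons Z1 hZ1R sZ1 h) n1
      have c2 : a.1 * Z2.1 = Z2.1 * a.1 := by
        rcases hAC a (hL haL) Z2 hZ2R with h | h
        · exact h
        · exact absurd (cons Z2 hZ2R sZ2 h) n2
      have c3 : a.1 * X1.1 = X1.1 * a.1 := by
        rcases hAC a (hL haL) X1 hX1R with h | h
        · exact h
        · exact absurd (cons X1 hX1R sX1 h) n3
      have c4 : a.1 * X2.1 = X2.1 * a.1 := by
        rcases hAC a (hL haL) X2 hX2R with h | h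
        · exact h
        · exact absurd (cons X2 hX2R sX2 h) n4
      have hcen : su4Pauli ι ≤ Subgroup.centralizer {a} := by
        unfold su4Pauli
        rw [Subgroup.closure_le]
        intro g hg
        rw [SetLike.mem_coe, Subgroup.mem_centralizer_iff]
        intro y hy
        rw [Set.mem_singleton_iff] at hy
        subst hy
        apply Units.ext
        rw [Units.val_mul, Units.val_mul]
        rcases hg with h | h | h | h | h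
        · rw [h]; simp
        · rw [h, ← hZ1]; exact c1
        · rw [h, ← hZ2]; exact c2
        · rw [h, ← hX1]; exact c3
        · rw [h, ← hX2]; exact c4
      have hall : ∀ x ∈ su4Pauli ι, a.1 * x.1 = x.1 * a.1 := by
        intro x hx
        have h := hcen hx
        rw [Subgroup.mem_centralizer_iff] at h
        have h' := congrArg Units.val (h a rfl)
        simpa using h'
      apply has
      obtain ⟨c, hc⟩ := hirr.2 a.1 (by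
        rintro s ⟨x, hx, rfl⟩
        exact hall x hx)
      rw [mem_scalars_iff]
      have hc0 : c ≠ 0 := by
        rintro rfl
        have h0 : a.1 = 0 := by rw [hc]; simp
        have h1 : a.1 * a⁻¹.1 = 1 := by simp
        rw [h0, zero_mul] at h1
        exact zero_ne_one h1
      exact ⟨Units.mk0 c hc0, hc⟩
    have hall5 : z⁻¹ * Z1 ∈ L' ∧ z⁻¹ * Z2 ∈ L' ∧ z⁻¹ * X1 ∈ L' ∧ z⁻¹ * X2 ∈ L' ∧
        z⁻¹ * (Z1 * Z2) ∈ L' := by
      rcases hone with h | h | h | h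
      · have hx1 := e1 h; have hz12 := e2 hx1; have hx2 := e3 hz12; have hz2 := e4 hx2
        exact ⟨h, hz2, hx1, hx2, hz12⟩
      · have hx2 := e4' h; have hz12 := e3' hx2; have hx1 := e2' hz12; have hz1 := e1' hx1
        exact ⟨hz1, h, hx1, hx2, hz12⟩
      · have hz1 := e1' h; have hz12 := e2 h; have hx2 := e3 hz12; have hz2 := e4 hx2
        exact ⟨hz1, hz2, h, hx2, hz12⟩
      · have hz2 := e4 h; have hz12 := e3' h; have hx1 := e2' hz12; have hz1 := e1' hx1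
        exact ⟨hz1, hz2, hx1, h, hz12⟩
    obtain ⟨t1, t2, t3, t4, t5⟩ := hall5
    have hzi : z⁻¹ ∈ L' := by
      have h := L'.mul_mem (L'.mul_mem t1 t2) (L'.inv_mem t5)
      have hc1 : Z1 * z⁻¹ = z⁻¹ * Z1 := by
        rw [hz]; exact (((su4q3min_z_comm ι hι Z1).inv_left).eq).symm
      have e : z⁻¹ * Z1 * (z⁻¹ * Z2) * (z⁻¹ * (Z1 * Z2))⁻¹ = z⁻¹ := by
        calc z⁻¹ * Z1 * (z⁻¹ * Z2) * (z⁻¹ * (Z1 * Z2))⁻¹
            = z⁻¹ * (Z1 * z⁻¹) * Z2 * (z⁻¹ * (Z1 * Z2))⁻¹ := by group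
          _ = z⁻¹ * (z⁻¹ * Z1) * Z2 * (z⁻¹ * (Z1 * Z2))⁻¹ := by rw [hc1]
          _ = z⁻¹ := by group
      rwa [e] at h
    have hzL : z ∈ L' := by simpa using L'.inv_mem hzi
    have g1 : Z1 ∈ L' := by simpa using L'.mul_mem hzL t1
    have g2 : Z2 ∈ L' := by simpa using L'.mul_mem hzL t2
    have g3 : X1 ∈ L' := by simpa using L'.mul_mem hzL t3
    have g4 : X2 ∈ L' := by simpa using L'.mul_mem hzL t4
    apply le_antisymm hL
    unfold su4Pauli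
    rw [Subgroup.closure_le]
    intro g hg
    rcases hg with h | h | h | h | h
    · have e : g = z := by rw [hz]; exact Units.ext h
      rw [e]; exact hzL
    · have e : g = Z1 := Units.ext (h.trans hZ1.symm)
      rw [e]; exact g1
    · have e : g = Z2 := Units.ext (h.trans hZ2.symm)
      rw [e]; exact g2
    · have e : g = X1 := Units.ext (h.trans hX1.symm)
      rw [e]; exact g3
    · have e : g = X2 := Units.ext (h.trans hX2.symm)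
      rw [e]; exact g4

end Cfsg.Agent.Lib.Helper91.SU4Q3MIN
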